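import Mathlib

/-!
# Integer vectors with all mutual differences of norm two
-/

set_option autoImplicit false
set_option linter.unusedSectionVars false

namespace Cfsg.Agent.Lib.PairPSolv

open Finset

variable {ι Λ : Type*} [Fintype ι] [DecidableEq ι]

/-- The unit vector at a. -/
def unitVec (a i : ι) : ℤ := if i = a then 1 else 0

theorem sum_mul_unitVec (F : ι → ℤ) (a : ι) : ∑ i, F i * unitVec a i = F a := by
  simp [unitVec]

theorem exists_pair_of_norm_two (D d : ι → ℤ) (hd : ∀ i, 0 < d i) (hz : ∑ i, d i * D i = 0)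
    (hn : ∑ i, D i * D i = 2) : ∃ a b, a ≠ b ∧ ∀ i, D i = unitVec a i - unitVec b i := by
  have hne : ∃ i, D i ≠ 0 := by
    by_contra h
    push Not at h
    simp [h] at hn
  obtain ⟨a, ha⟩ : ∃ a, 0 < D a := by
    by_contra h
    push Not at h
    obtain ⟨i, hi⟩ := hne
    have h1 := (sum_eq_zero_iff_of_nonpos fun j _ =>
      mul_nonpos_of_nonneg_of_nonpos (hd j).le (h j)).mp hz i (mem_univ i)
    exact hi ((mul_eq_zero.mp h1).resolve_left (hd i).ne')
  obtain ⟨b, hb⟩ : ∃ b, D b < 0 := by
    by_contra h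
    push Not at h
    have h1 := (sum_eq_zero_iff_of_nonneg fun j _ =>
      mul_nonneg (hd j).le (h j)).mp hz a (mem_univ a)
    exact ha.ne' ((mul_eq_zero.mp h1).resolve_left (hd a).ne')
  have hab : a ≠ b := fun h => by subst h; omega
  have h1 : D a * D a + D b * D b + ∑ i ∈ (univ.erase a).erase b, D i * D i = 2 := by
    rw [← hn, ← add_sum_erase univ _ (mem_univ a),
      ← add_sum_erase (univ.erase a) _ (mem_erase.mpr ⟨hab.symm, mem_univ b⟩), add_assoc]
  have hnn : ∀ i ∈ (univ.erase a).erase b, 0 ≤ D i * D i := fun i _ => mul_self_nonneg _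
  have h2 := sum_nonneg hnn
  have ha1 : D a = 1 := by nlinarith
  have hb1 : D b = -1 := by nlinarith
  have hrest := (sum_eq_zero_iff_of_nonneg hnn).mp (by rw [ha1, hb1] at h1; linarith)
  refine ⟨a, b, hab, fun i => ?_⟩
  by_cases hia : i = a
  · subst hia; simp [unitVec, ha1, hab]
  by_cases hib : i = b
  · subst hib; simp [unitVec, hb1, hia]
  simpa [unitVec, hia, hib] using hrest i (by simp [hia, hib])

theorem coherent [Fintype Λ] (v : Λ → ι → ℤ) (r : Λ → Λ → Prop) [DecidableRel r]
    (hr : Equivalence r) (e : ℤ)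
    (gram : ∀ k l, ∑ i, v k i * v l i = e + if r k l then 1 else 0)
    (d : ι → ℤ) (hd : ∀ i, 0 < d i) (hdz : ∀ k, ∑ i, d i * v k i = 0)
    (hne : ∃ k l, ¬ r k l) :
    ∃ (f : Λ → ι) (ε : ℤ) (c : ι → ℤ), (ε = 1 ∨ ε = -1) ∧
      (∀ k i, v k i = c i + ε * unitVec (f k) i) ∧ (∀ k l, f k = f l ↔ r k l) ∧
      (∀ k l, d (f k) = d (f l)) ∧ ∀ k, ∑ i, c i * c i + 2 * ε * c (f k) = e := by
  have hinner : ∀ k l m, ∑ i, (v k i - v l i) * (v k i - v m i) =
      (if r k k then 1 else 0) - (if r k m then 1 else 0) - (if r l k then 1 else 0) +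
        (if r l m then 1 else 0) := by
    intro k l m
    simp only [sub_mul, mul_sub, sum_sub_distrib, gram]
    ring
  have hpair : ∀ k l, ¬ r k l → ∃ a b, a ≠ b ∧ ∀ i, v k i - v l i = unitVec a i - unitVec b i := by
    intro k l h
    refine exists_pair_of_norm_two _ d hd ?_ ?_
    · simp only [mul_sub, sum_sub_distrib, hdz, sub_zero]
    · rw [hinner, if_pos (hr.refl k), if_neg h, if_neg fun h' => h (hr.symm h'), if_pos (hr.refl l)]
      norm_num
  have heq : ∀ k l, r k l → v k = v l := by
    intro k l h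
    have h2 : ∑ i, (v k i - v l i) * (v k i - v l i) = 0 := by
      rw [hinner, if_pos (hr.refl k), if_pos h, if_pos (hr.symm h), if_pos (hr.refl l)]
      norm_num
    funext i
    have := (sum_eq_zero_iff_of_nonneg fun j _ => mul_self_nonneg _).mp h2 i (mem_univ i)
    exact sub_eq_zero.mp (mul_self_eq_zero.mp this)
  -- it suffices to describe the vectors
  suffices hmain : ∃ (f : Λ → ι) (ε : ℤ) (c : ι → ℤ), (ε = 1 ∨ ε = -1) ∧
      ∀ k i, v k i = c i + ε * unitVec (f k) i by
    obtain ⟨f, ε, c, hε, hv⟩ := hmain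
    have hε2 : ε * ε = 1 := by rcases hε with rfl | rfl <;> norm_num
    refine ⟨f, ε, c, hε, hv, fun k l => ⟨fun h => ?_, fun h => ?_⟩, fun k l => ?_, fun k => ?_⟩
    · by_contra hn
      have h1 := gram k l
      have h2 := gram k k
      rw [show v l = v k from funext fun i => by rw [hv, hv, h], if_neg hn] at h1
      rw [if_pos (hr.refl k)] at h2
      omega
    · have h1 := congrFun (heq k l h) (f k)
      rw [hv, hv] at h1
      by_contra hfn
      simp [unitVec, hfn] at h1
      rcases hε with rfl | rfl <;> omega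
    · have h1 := hdz k
      have h2 := hdz l
      simp only [hv, mul_add, sum_add_distrib, mul_left_comm _ ε, ← mul_sum,
        sum_mul_unitVec] at h1 h2
      rcases hε with rfl | rfl <;> linarith
    · have h1 := gram k k
      rw [if_pos (hr.refl k)] at h1
      simp only [hv, add_mul, mul_add, sum_add_distrib] at h1
      have h3 : ∑ i, ε * unitVec (f k) i * c i = ε * c (f k) := by
        rw [← sum_mul_unitVec c (f k), mul_sum]
        exact sum_congr rfl fun i _ => by ring
      have h4 : ∑ i, c i * (ε * unitVec (f k) i) = ε * c (f k) := by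
        rw [← h3]
        exact sum_congr rfl fun i _ => by ring
      have h5 : ∑ i, ε * unitVec (f k) i * (ε * unitVec (f k) i) = 1 := by
        rw [sum_eq_single (f k)] <;> simp [unitVec, hε2]
      rw [h3, h4, h5] at h1
      linarith
  obtain ⟨k₁, k₂, h12⟩ := hne
  obtain ⟨a, b, hab, hD⟩ := hpair k₁ k₂ h12
  have hdot : ∀ a b c e : ι, ∑ i, (unitVec a i - unitVec b i) * (unitVec c i - unitVec e i) =
      unitVec a c - unitVec b c - (unitVec a e - unitVec b e) := by
    intro a b c e
    simp only [mul_sub, sum_sub_distrib, sum_mul_unitVec]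
  -- each further difference shares exactly one end with the first
  have hshare : ∀ m, ¬ r k₁ m → ¬ r k₂ m → ∀ c e, c ≠ e →
      (∀ i, v k₁ i - v m i = unitVec c i - unitVec e i) → (c = a ∧ e ≠ b) ∨ (e = b ∧ c ≠ a) := by
    intro m h1 h2 c e hce hDm
    have h := hinner k₁ k₂ m
    rw [sum_congr rfl fun i _ => by rw [hD i, hDm i], hdot, if_pos (hr.refl k₁), if_neg h1,
      if_neg fun h' => h12 (hr.symm h'), if_neg h2] at h
    simp only [unitVec] at h
    by_cases hca : c = a <;> by_cases heb : e = b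
    · exfalso
      subst hca heb
      simp [hab, Ne.symm hab] at h
    · exact Or.inl ⟨hca, heb⟩
    · exact Or.inr ⟨heb, hca⟩
    · simp only [hca, heb, if_false] at h
      split_ifs at h <;> omega
  by_cases hA : ∀ m, ¬ r k₁ m → ∃ x, ∀ i, v k₁ i - v m i = unitVec a i - unitVec x i
  · choose g hg using hA
    refine ⟨fun m => if h : r k₁ m then a else g m h, 1, fun i => v k₁ i - unitVec a i,
      Or.inl rfl, fun m i => ?_⟩
    dsimp only
    split_ifs with h
    · rw [← heq k₁ m h]; ring
    · have := hg m h i; linarith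
  · push Not at hA
    obtain ⟨m₀, hm₀, hno⟩ := hA
    obtain ⟨c₀, e₀, hce₀, hD₀⟩ := hpair k₁ m₀ hm₀
    have hm₀2 : ¬ r k₂ m₀ := fun h => by
      obtain ⟨i, hi⟩ := hno b
      exact hi (by rw [← heq k₂ m₀ h, hD i])
    obtain ⟨heb₀, hca₀⟩ : e₀ = b ∧ c₀ ≠ a := by
      rcases hshare m₀ hm₀ hm₀2 c₀ e₀ hce₀ hD₀ with ⟨h, -⟩ | h
      · obtain ⟨i, hi⟩ := hno e₀
        exact absurd (by rw [hD₀ i, h]) hi
      · exact h
    subst heb₀
    have hB : ∀ m, ¬ r k₁ m → ∃ x, ∀ i, v k₁ i - v m i = unitVec x i - unitVec e₀ i := by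
      intro m h1
      by_cases h2 : r k₂ m
      · exact ⟨a, fun i => by rw [← heq k₂ m h2, hD i]⟩
      by_cases h3 : r m₀ m
      · exact ⟨c₀, fun i => by rw [← heq m₀ m h3, hD₀ i]⟩
      obtain ⟨c, e, hce, hDm⟩ := hpair k₁ m h1
      rcases hshare m h1 h2 c e hce hDm with ⟨hca, heb⟩ | ⟨heb, -⟩
      · exfalso
        subst hca
        have h := hinner k₁ m₀ m
        rw [sum_congr rfl fun i _ => by rw [hD₀ i, hDm i], hdot, if_pos (hr.refl k₁), if_neg h1,
          if_neg fun h' => hm₀ (hr.symm h'), if_neg h3] at h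
        simp only [unitVec] at h
        split_ifs at h <;> first | omega | (subst_vars; exact absurd rfl hca₀) |
          (subst_vars; exact absurd rfl hce) | (subst_vars; exact absurd rfl heb) |
          (subst_vars; exact absurd rfl hab) | (subst_vars; exact absurd rfl hce₀)
      · subst heb
        exact ⟨c, hDm⟩
    choose g hg using hB
    refine ⟨fun m => if h : r k₁ m then e₀ else g m h, -1, fun i => v k₁ i + unitVec e₀ i,
      Or.inr rfl, fun m i => ?_⟩
    dsimp only
    split_ifs with h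
    · rw [← heq k₁ m h]; ring
    · have := hg m h i; linarith

end Cfsg.Agent.Lib.PairPSolv
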