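import Mathlib
import Cfsg.Agent.Lib.Blocks.SecondMain
import Cfsg.Agent.Lib.Blocks.PrincipalSection
import Cfsg.Agent.Lib.Blocks.KleinPrincipal
import Cfsg.Agent.Lib.Blocks.SectionSums

/-!
# Principal-block values on the p-sections, abelian Sylow with p-nilpotent centralizers
-/

set_option autoImplicit false
set_option linter.unusedSectionVars false

namespace Cfsg.Agent.Lib.PairPSolv

open Cfsg Subgroup Finset
open Cfsg.Agent.Lib
open scoped ComplexConjugate Classical

universe u

variable {G : Type u} [Group G] [Fintype G] {p : ℕ} [hp : Fact p.Prime]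

theorem card_transporter (a b : G) :
    (#{k : G | k * a * k⁻¹ = b} : ℕ) =
      if ∃ k : G, k * a * k⁻¹ = b then Nat.card (centralizer ({a} : Set G)) else 0 := by
  split_ifs with h
  · obtain ⟨k₀, hk₀⟩ := h
    rw [Nat.card_eq_fintype_card, Fintype.card_subtype]
    refine card_bij (fun k _ => k₀⁻¹ * k) ?_ ?_ ?_
    · intro k hk
      simp only [mem_filter, mem_univ, true_and] at hk ⊢
      rw [mem_centralizer_singleton_iff]
      calc k₀⁻¹ * k * a = k₀⁻¹ * (k * a * k⁻¹) * k := by group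
        _ = a * (k₀⁻¹ * k) := by rw [hk, ← hk₀]; group
    · exact fun k _ l _ => mul_left_cancel
    · intro c hc
      simp only [mem_filter, mem_univ, true_and, mem_centralizer_singleton_iff] at hc
      refine ⟨k₀ * c, ?_, by group⟩
      simp only [mem_filter, mem_univ, true_and]
      calc k₀ * c * a * (k₀ * c)⁻¹ = k₀ * (c * a) * c⁻¹ * k₀⁻¹ := by group
        _ = b := by rw [hc, ← hk₀]; group
  · rw [card_eq_zero, filter_eq_empty_iff]
    exact fun k _ hk => h ⟨k, hk⟩

theorem column_count (a b : G) :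
    ∑ χ : IrrCharacter G, (χ : G → ℂ) a * conj ((χ : G → ℂ) b) =
      (#{k : G | k * a * k⁻¹ = b} : ℕ) := by
  rw [card_transporter]
  split_ifs with h
  · exact Chars.column_orthogonality_of_isConj (isConj_iff.mpr h)
  · rw [Chars.column_orthogonality_of_not_isConj fun hc => h (isConj_iff.mp hc), Nat.cast_zero]

/-- The p-regular elements of the centralizer of u. -/
noncomputable def reg (p : ℕ) (u : G) : Finset G :=
  univ.filter fun v => v ∈ centralizer ({u} : Set G) ∧ ¬ p ∣ orderOf v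

theorem mem_reg {u v : G} :
    v ∈ reg p u ↔ v ∈ centralizer ({u} : Set G) ∧ ¬ p ∣ orderOf v := by
  simp [reg]

variable (P : Sylow p G) (hP : IsMulCommutative (P : Subgroup G))
  (hC : ∀ u ∈ (P : Subgroup G), u ≠ 1 →
    HasNormalPComplement p (centralizer ({u} : Set G)))

include hP in
theorem le_centralizer_of_mem {u : G} (hu : u ∈ (P : Subgroup G)) :
    (P : Subgroup G) ≤ centralizer ({u} : Set G) := fun w hw =>
  mem_centralizer_singleton_iff.mpr (congrArg Subtype.val (hP.is_comm.comm ⟨w, hw⟩ ⟨u, hu⟩))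

theorem pElement_of_mem {u : G} (hu : u ∈ (P : Subgroup G)) : ∃ k : ℕ, orderOf u = p ^ k := by
  obtain ⟨k, hk⟩ := (IsPGroup.iff_orderOf.mp P.isPGroup') ⟨u, hu⟩
  exact ⟨k, by rwa [Subgroup.orderOf_mk] at hk⟩

include hP hC

theorem core_facts {u : G} (hu : u ∈ (P : Subgroup G)) (hu1 : u ≠ 1) :
    (pPrimeCore p (centralizer ({u} : Set G))).index = Nat.card P ∧
      ∀ v, v ∈ reg p u ↔ v ∈ centralizerPPrimeCore p u := by
  set C := centralizer ({u} : Set G)
  obtain ⟨P₀, N, hN, hc⟩ := hC u hu hu1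
  have hNidx : N.index = Nat.card P₀ := hc.symm.index_eq_card
  have hNcop : (Nat.card N).Coprime p := by
    rw [← hc.index_eq_card, Nat.coprime_comm, hp.out.coprime_iff_not_dvd]
    exact P₀.not_dvd_index
  obtain ⟨k, hk⟩ := IsPGroup.iff_card.mp P₀.isPGroup'
  have hregN : ∀ v : C, ¬ p ∣ orderOf v → v ∈ N := by
    intro v hv
    have h1 : orderOf (QuotientGroup.mk' N v) ∣ p ^ k := by
      rw [← hk, ← hNidx, index_eq_card]
      exact orderOf_dvd_natCard _
    have h2 : orderOf (QuotientGroup.mk' N v) ∣ orderOf v := orderOf_map_dvd _ _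
    have h3 := Nat.eq_one_of_dvd_coprimes
      ((hp.out.coprime_iff_not_dvd.mpr hv).pow_left k) h1 h2
    exact (QuotientGroup.eq_one_iff v).mp (orderOf_eq_one_iff.mp h3)
  have hO : pPrimeCore p C = N := by
    refine le_antisymm (fun v hv => hregN v fun h => ?_) (PSolvable.le_pPrimeCore hNcop)
    exact PSolvable.pPrimeCore_not_dvd (h.trans (Subgroup.orderOf_dvd_natCard _ hv))
  refine ⟨?_, fun v => ?_⟩
  · rw [hO, hNidx]
    apply Nat.dvd_antisymm
    · rw [← card_map_of_injective C.subtype_injective]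
      obtain ⟨T, hT⟩ := (P₀.isPGroup'.map C.subtype).exists_le_sylow
      rw [(Sylow.card_eq_multiplicity P), ← T.card_eq_multiplicity]
      exact card_dvd_of_le hT
    · rw [← Nat.card_congr (subgroupOfEquivOfLe (le_centralizer_of_mem P hP hu)).toEquiv]
      obtain ⟨T, hT⟩ := (P.isPGroup'.comap_subtype (K := C)).exists_le_sylow
      rw [(Sylow.card_eq_multiplicity P₀), ← T.card_eq_multiplicity]
      exact card_dvd_of_le hT
  · rw [mem_reg]
    constructor
    · rintro ⟨hv, hr⟩
      refine Subgroup.mem_map.mpr ⟨⟨v, hv⟩, ?_, rfl⟩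
      rw [hO]
      exact hregN _ (by rwa [← Subgroup.orderOf_coe])
    · intro hv
      obtain ⟨w, hw, rfl⟩ := Subgroup.mem_map.mp hv
      refine ⟨w.2, fun h => PSolvable.pPrimeCore_not_dvd (p := p) (G := C)
        (h.trans ?_)⟩
      show orderOf (w : G) ∣ _
      rw [Subgroup.orderOf_coe]
      exact Subgroup.orderOf_dvd_natCard _ hw

theorem card_reg {u : G} (hu : u ∈ (P : Subgroup G)) (hu1 : u ≠ 1) :
    (reg p u).card * Nat.card P = Nat.card (centralizer ({u} : Set G)) := by
  obtain ⟨h1, h2⟩ := core_facts P hP hC hu hu1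
  rw [← h1, ← Nat.card_eq_finsetCard, Nat.card_congr
    (Equiv.subtypeEquivRight (q := fun v => v ∈ centralizerPPrimeCore p u) h2)]
  show Nat.card ((pPrimeCore p (centralizer ({u} : Set G))).map
    (centralizer ({u} : Set G)).subtype) * _ = _
  rw [card_map_of_injective (Subgroup.subtype_injective _), Subgroup.card_mul_index]

omit hP hC

/-- The average of χ on the p-section u · O_{p'}(C(u)). -/
noncomputable def secAvg (p : ℕ) (χ : IrrCharacter G) (u : G) : ℂ :=
  ((reg p u).card : ℂ)⁻¹ * ∑ v ∈ reg p u, (χ : G → ℂ) (u * v)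

theorem one_mem_reg (u : G) : (1 : G) ∈ reg p u :=
  mem_reg.mpr ⟨one_mem _, by simpa using hp.out.ne_one⟩

theorem card_reg_ne_zero (u : G) : ((reg p u).card : ℂ) ≠ 0 :=
  Nat.cast_ne_zero.mpr (card_ne_zero.mpr ⟨1, one_mem_reg u⟩)

theorem isPPart_reg {u v : G} (hu : ∃ k : ℕ, orderOf u = p ^ k) (hv : v ∈ reg p u) :
    IsPPart p (u * v) u :=
  Blocks.Sections.isPPart_mul p hu
    (show Commute u v from (mem_centralizer_singleton_iff.mp (mem_reg.mp hv).1).symm)
    (mem_reg.mp hv).2

theorem conj_mem_reg {u w v k : G} (hk : k * u * k⁻¹ = w) (hv : v ∈ reg p u) :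
    k * v * k⁻¹ ∈ reg p w := by
  obtain ⟨hv1, hv2⟩ := mem_reg.mp hv
  refine mem_reg.mpr ⟨mem_centralizer_singleton_iff.mpr ?_, ?_⟩
  · rw [← hk]
    calc k * v * k⁻¹ * (k * u * k⁻¹) = k * (v * u) * k⁻¹ := by group
      _ = k * (u * v) * k⁻¹ := by rw [mem_centralizer_singleton_iff.mp hv1]
      _ = k * u * k⁻¹ * (k * v * k⁻¹) := by group
  · rwa [show k * v * k⁻¹ = MulAut.conj k v from rfl, MulEquiv.orderOf_eq]

include hP hC

theorem gram_all {u w : G} (hu : u ∈ (P : Subgroup G)) (hu1 : u ≠ 1) (hw : w ∈ (P : Subgroup G))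
    (hw1 : w ≠ 1) :
    ∑ χ : IrrCharacter G, secAvg p χ u * conj (secAvg p χ w) =
      if IsConj u w then (Nat.card P : ℂ) else 0 := by
  classical
  have hup := pElement_of_mem P hu
  have hwp := pElement_of_mem P hw
  have hinner : ∀ v ∈ reg p u, (∑ v' ∈ reg p w, #{k : G | k * (u * v) * k⁻¹ = w * v'}) =
      #{k : G | k * u * k⁻¹ = w} := by
    intro v hv
    simp only [card_filter]
    rw [sum_comm]
    refine sum_congr rfl fun k _ => ?_
    by_cases hk : k * u * k⁻¹ = w
    · rw [if_pos hk, sum_eq_single (k * v * k⁻¹), if_pos]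
      · rw [← hk]; group
      · intro v' _ hne
        rw [if_neg]
        intro h
        apply hne
        rw [← hk] at h
        calc v' = (k * u * k⁻¹)⁻¹ * (k * u * k⁻¹ * v') := by group
          _ = k * v * k⁻¹ := by rw [← h]; group
      · exact fun h => absurd (conj_mem_reg hk hv) h
    · rw [if_neg hk]
      refine sum_eq_zero fun v' hv' => if_neg fun h => hk ?_
      exact Blocks.isPPart_unique (h ▸ Blocks.isPPart_conj (isPPart_reg hup hv) k)
        (isPPart_reg hwp hv')
  have key : ∑ χ : IrrCharacter G, (∑ v ∈ reg p u, (χ : G → ℂ) (u * v)) *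
      conj (∑ v ∈ reg p w, (χ : G → ℂ) (w * v)) =
      ((reg p u).card * #{k : G | k * u * k⁻¹ = w} : ℕ) := by
    simp only [map_sum, sum_mul_sum]
    rw [sum_comm]
    rw [sum_congr rfl fun v _ => sum_comm]
    simp only [column_count]
    rw [← sum_const_nat (s := reg p u) (f := fun _ => #{k : G | k * u * k⁻¹ = w})
      (fun _ _ => rfl)]
    rw [← sum_congr rfl hinner]
    push_cast
    rfl
  have hmain : ∑ χ : IrrCharacter G, secAvg p χ u * conj (secAvg p χ w) =
      ((reg p u).card : ℂ)⁻¹ * ((reg p w).card : ℂ)⁻¹ *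
        (((reg p u).card * #{k : G | k * u * k⁻¹ = w} : ℕ) : ℂ) := by
    rw [← key, mul_sum]
    refine sum_congr rfl fun χ _ => ?_
    rw [secAvg, secAvg, map_mul, map_inv₀, map_natCast]
    ring
  rw [hmain, card_transporter]
  by_cases hc : IsConj u w
  · rw [if_pos hc, if_pos (isConj_iff.mp hc), Chars.card_centralizer_eq_of_isConj hc,
      ← card_reg P hP hC hw hw1]
    push_cast
    field_simp [card_reg_ne_zero (p := p) u, card_reg_ne_zero (p := p) w]
  · rw [if_neg hc, if_neg fun h => hc (isConj_iff.mpr h)]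
    simp

variable {M : Ideal AlgInt} [M.IsPrime] (hM : IsPModular p M)
include hM

theorem secAvg_eq {χ : IrrCharacter G} (hχ : χ ∈ principalBlock M G) {u : G}
    (hu : u ∈ (P : Subgroup G)) (hu1 : u ≠ 1) : secAvg p χ u = (χ : G → ℂ) u := by
  have hup := pElement_of_mem P hu
  rw [secAvg, sum_congr rfl fun v hv => Blocks.PrincipalSection.apply_mul_eq hM hup
    (fun _ hB _ hχ' _ hb hnot _ hy => Blocks.secondMain_blockPart hM hup hB hχ' rfl hb hnot hy)
    (((core_facts P hP hC hu hu1).2 v).mp hv) hχ, sum_const, nsmul_eq_mul,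
    inv_mul_cancel_left₀ (card_reg_ne_zero u)]

theorem secAvg_eq_zero {χ : IrrCharacter G} (hχ : χ ∉ principalBlock M G) {u : G}
    (hu : u ∈ (P : Subgroup G)) (hu1 : u ≠ 1) : secAvg p χ u = 0 := by
  classical
  have hup := pElement_of_mem P hu
  set C := centralizer ({u} : Set G)
  have h1reg : ¬ p ∣ orderOf (1 : C) := by simpa using hp.out.ne_one
  obtain ⟨k, hk⟩ := IsPGroup.iff_card.mp P.isPGroup'
  have hidx := (core_facts P hP hC hu hu1).1
  have hfac : p ^ (Nat.card C).factorization p = Nat.card P := by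
    have h := Subgroup.card_mul_index (pPrimeCore p C)
    rw [hidx, hk] at h
    rw [← h, Nat.factorization_mul Nat.card_pos.ne' (pow_ne_zero _ hp.out.ne_zero),
      Finsupp.add_apply, Nat.factorization_eq_zero_of_not_dvd PSolvable.pPrimeCore_not_dvd,
      zero_add, hp.out.factorization_pow, Finsupp.single_eq_same, hk]
  have h2 : Blocks.PrincipalSection.SecondMain p M u :=
    fun _ hB _ hχ' _ hb hnot _ hy => Blocks.secondMain_blockPart hM hup hB hχ' rfl hb hnot hy
  have hB : ∑ᶠ ζ ∈ principalBlock M G, ‖(ζ : G → ℂ) (u * ((1 : C) : G))‖ ^ 2 =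
      ((Nat.card P : ℕ) : ℝ) := by
    rw [Blocks.PrincipalSection.sum_norm_sq_eq hM hup h2 1 h1reg,
      Blocks.PrincipalSection.sum_norm_sq_of_complement hM ⟨k, by rw [hidx, hk]⟩ h1reg, hfac]
  rw [OneMemClass.coe_one, mul_one, finsum_mem_eq_toFinset_sum] at hB
  have hall : ∑ ζ : IrrCharacter G, ‖secAvg p ζ u‖ ^ 2 = ((Nat.card P : ℕ) : ℝ) := by
    have h := gram_all P hP hC hu hu1 hu hu1
    rw [if_pos (IsConj.refl u)] at h
    simp only [Complex.mul_conj, Complex.normSq_eq_norm_sq] at h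
    exact_mod_cast h
  have hins : ∑ ζ ∈ insert χ (principalBlock M G).toFinset, ‖secAvg p ζ u‖ ^ 2 ≤
      ((Nat.card P : ℕ) : ℝ) := by
    rw [← hall]
    exact sum_le_univ_sum_of_nonneg fun ζ => sq_nonneg _
  rw [sum_insert (by simpa using hχ), sum_congr rfl fun ζ hζ => by
    rw [secAvg_eq P hP hC hM (Set.mem_toFinset.mp hζ) hu hu1], hB] at hins
  have : ‖secAvg p χ u‖ = 0 := by nlinarith [norm_nonneg (secAvg p χ u)]
  exact norm_eq_zero.mp this

/-- Orthogonality of the principal-block columns on non-identity elements of P. -/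
theorem gram {u w : G} (hu : u ∈ (P : Subgroup G)) (hu1 : u ≠ 1) (hw : w ∈ (P : Subgroup G))
    (hw1 : w ≠ 1) [Fintype (principalBlock M G)] :
    ∑ χ ∈ (principalBlock M G).toFinset, (χ : G → ℂ) u * conj ((χ : G → ℂ) w) =
      if IsConj u w then (Nat.card P : ℂ) else 0 := by
  rw [← gram_all P hP hC hu hu1 hw hw1,
    ← sum_subset (subset_univ (principalBlock M G).toFinset) (fun χ _ hχ => by
      rw [secAvg_eq_zero P hP hC hM (fun h => hχ (Set.mem_toFinset.mpr h)) hu hu1, zero_mul])]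
  exact sum_congr rfl fun χ hχ => by
    rw [secAvg_eq P hP hC hM (Set.mem_toFinset.mp hχ) hu hu1,
      secAvg_eq P hP hC hM (Set.mem_toFinset.mp hχ) hw hw1]

theorem sum_degree_mul {u : G} (hu : u ∈ (P : Subgroup G)) (hu1 : u ≠ 1)
    [Fintype (principalBlock M G)] :
    ∑ χ ∈ (principalBlock M G).toFinset, (χ : G → ℂ) 1 * (χ : G → ℂ) u = 0 := by
  classical
  have hz : ∀ v ∈ reg p u, ∑ χ : IrrCharacter G, (χ : G → ℂ) 1 * (χ : G → ℂ) (u * v) = 0 := by
    intro v hv
    have hne : ¬ IsConj (u * v) (1 : G) := fun h => hu1 (by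
      have h' := isConj_one_right.mp h.symm
      exact Blocks.isPPart_unique (isPPart_reg (pElement_of_mem P hu) hv)
        (h'.symm ▸ Blocks.isPPart_one_of_pRegular (by simpa using hp.out.ne_one)))
    rw [← Chars.column_orthogonality_of_not_isConj hne]
    refine sum_congr rfl fun χ _ => ?_
    obtain ⟨d, hd⟩ := Chars.isCharacter_exists_degree (Chars.irr_isCharacter χ)
    rw [hd, map_natCast, mul_comm]
  have hall : ∑ χ : IrrCharacter G, (χ : G → ℂ) 1 * secAvg p χ u = 0 := by
    simp only [secAvg, mul_sum]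
    rw [sum_comm]
    refine sum_eq_zero fun v hv => ?_
    rw [sum_congr rfl fun χ _ => mul_left_comm _ _ _, ← mul_sum, hz v hv, mul_zero]
  rw [← hall, ← sum_subset (subset_univ (principalBlock M G).toFinset) (fun χ _ hχ => by
      rw [secAvg_eq_zero P hP hC hM (fun h => hχ (Set.mem_toFinset.mpr h)) hu hu1, mul_zero])]
  exact sum_congr rfl fun χ hχ => by
    rw [secAvg_eq P hP hC hM (Set.mem_toFinset.mp hχ) hu hu1]

omit hM

/-- Summing a character over the elements whose p-part meets Q. -/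
theorem sum_partIn (χ : IrrCharacter G) (Q : Finset G) (e : ℕ)
    (hQ : ∀ u ∈ Q, u ∈ (P : Subgroup G) ∧ u ≠ 1)
    (he : ∀ u ∈ Q, #{w ∈ Q | IsConj u w} = e) :
    (e : ℂ) * ∑ g ∈ univ.filter (fun g : G => ∃ u ∈ Q, IsConj u (g ^ Blocks.pPartExp G p)),
        (χ : G → ℂ) g = (Nat.card G : ℂ) / (Nat.card P : ℂ) * ∑ u ∈ Q, secAvg p χ u := by
  set E := Blocks.pPartExp G p
  have hT : ∀ u ∈ Q, ∑ g : G, (#{k : G | k * u * k⁻¹ = g ^ E} : ℕ) * (χ : G → ℂ) g =
      (Nat.card G : ℂ) * ∑ v ∈ reg p u, (χ : G → ℂ) (u * v) := by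
    intro u hu
    have hup := pElement_of_mem P (hQ u hu).1
    have h1 : (Nat.card G : ℂ) * ∑ v ∈ reg p u, (χ : G → ℂ) (u * v) =
        ∑ k : G, ∑ v ∈ reg p u, (χ : G → ℂ) (k * (u * v) * k⁻¹) := by
      rw [sum_congr rfl fun k _ => sum_congr rfl fun v _ =>
        Chars.irr_isClassFunction χ (u * v) k, sum_const, card_univ, nsmul_eq_mul,
        Nat.card_eq_fintype_card]
    rw [h1]
    simp only [card_filter, Nat.cast_sum, sum_mul]
    rw [sum_comm]
    refine sum_congr rfl fun k _ => ?_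
    simp only [Nat.cast_ite, Nat.cast_one, Nat.cast_zero, ite_mul, one_mul, zero_mul]
    rw [← sum_filter]
    symm
    refine sum_bij (fun v _ => k * (u * v) * k⁻¹) ?_ ?_ ?_ (fun _ _ => rfl)
    · intro v hv
      simp only [mem_filter, mem_univ, true_and]
      exact Blocks.isPPart_iff.mp (Blocks.isPPart_conj (isPPart_reg hup hv) k)
    · exact fun v _ w _ h => mul_left_cancel (mul_left_cancel (mul_right_cancel h))
    · intro g hg
      simp only [mem_filter, mem_univ, true_and] at hg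
      have hg' : IsPPart p (k⁻¹ * g * k) u := by
        have h := Blocks.isPPart_conj (Blocks.isPPart_iff.mpr hg : IsPPart p g (k * u * k⁻¹)) k⁻¹
        rwa [inv_inv, show k⁻¹ * (k * u * k⁻¹) * k = u by group] at h
      obtain ⟨y, hy, hcy, -, hyr⟩ := hg'
      refine ⟨y, mem_reg.mpr ⟨mem_centralizer_singleton_iff.mpr hcy.symm.eq, hyr⟩, ?_⟩
      show k * (u * y) * k⁻¹ = g
      rw [hy]; group
  have hnum : ∀ u ∈ Q, (Nat.card G : ℂ) / (Nat.card P : ℂ) * secAvg p χ u =
      ∑ g : G, (if IsConj u (g ^ E) then (1 : ℂ) else 0) * (χ : G → ℂ) g := by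
    intro u hu
    have hc : ((Nat.card (centralizer ({u} : Set G)) : ℕ) : ℂ) ≠ 0 :=
      Chars.card_centralizer_ne_zero u
    apply mul_left_cancel₀ hc
    rw [mul_sum]
    calc _ = (Nat.card G : ℂ) * ∑ v ∈ reg p u, (χ : G → ℂ) (u * v) := by
          rw [← card_reg P hP hC (hQ u hu).1 (hQ u hu).2, secAvg]
          push_cast
          field_simp [card_reg_ne_zero (p := p) u, Nat.card_pos (α := P) |>.ne']
      _ = _ := by
          rw [← hT u hu]
          refine sum_congr rfl fun g _ => ?_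
          rw [card_transporter]
          by_cases h : IsConj u (g ^ E)
          · rw [if_pos h, if_pos (isConj_iff.mp h)]; ring
          · rw [if_neg h, if_neg fun h' => h (isConj_iff.mpr h')]; simp
  rw [mul_sum _ _ ((Nat.card G : ℂ) / _), sum_congr rfl hnum, sum_comm, mul_sum, sum_filter]
  refine sum_congr rfl fun g _ => ?_
  rw [← sum_mul, sum_boole]
  by_cases h : ∃ u ∈ Q, IsConj u (g ^ E)
  · obtain ⟨u, hu, huc⟩ := h
    rw [if_pos ⟨u, hu, huc⟩, ← he u hu]
    congr 2
    congr 1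
    exact filter_congr fun w _ => ⟨fun hw => hw.symm.trans huc, fun hw => huc.trans hw.symm |>.symm |>.symm⟩
  · rw [if_neg h, filter_eq_empty_iff.mpr fun w hw hw' => h ⟨w, hw, hw'⟩]
    simp

end Cfsg.Agent.Lib.PairPSolv
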