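import Mathlib
import Cfsg.Agent.Lib.PairPSolv.Section
import Cfsg.Agent.Lib.CharCount.Basic

/-!
# Counting products of two conjugates with prescribed p-part
-/

set_option autoImplicit false
set_option linter.unusedSectionVars false

namespace Cfsg.Agent.Lib.PairPSolv

open Cfsg Subgroup Finset
open Cfsg.Agent.Lib
open scoped ComplexConjugate Classical

universe u

variable {G : Type u} [Group G] [Fintype G] {p : ℕ} [hp : Fact p.Prime]
  (P : Sylow p G) (hP : IsMulCommutative (P : Subgroup G))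
  (hC : ∀ u ∈ (P : Subgroup G), u ≠ 1 →
    HasNormalPComplement p (centralizer ({u} : Set G)))

/-- The p-part of g is conjugate into Q. -/
def PartIn (p : ℕ) [Fact p.Prime] (Q : Finset G) (g : G) : Prop :=
  ∃ u ∈ Q, IsConj u (g ^ Blocks.pPartExp G p)

theorem partIn_conj (Q : Finset G) (g k : G) : PartIn p Q (k * g * k⁻¹) ↔ PartIn p Q g := by
  simp only [PartIn, conj_pow]
  constructor <;> rintro ⟨u, hu, hc⟩ <;> refine ⟨u, hu, hc.trans ?_⟩
  · exact isConj_iff.mpr ⟨k⁻¹, by group⟩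
  · exact isConj_iff.mpr ⟨k, rfl⟩

variable {M : Ideal AlgInt} [M.IsPrime]

include hP hC

theorem count_eq (hM : IsPModular p M) {x y : G} (Q : Finset G) (e : ℕ)
    (hQ : ∀ u ∈ Q, u ∈ (P : Subgroup G) ∧ u ≠ 1)
    (he : ∀ u ∈ Q, #{w ∈ Q | IsConj u w} = e) :
    (e : ℂ) * (Nat.card P : ℂ) * (#{k : G | PartIn p Q (x * (k * y⁻¹ * k⁻¹))} : ℕ) =
      (Nat.card G : ℂ) * ∑ χ ∈ (principalBlock M G).toFinset,
        conj (∑ u ∈ Q, (χ : G → ℂ) u) * (χ : G → ℂ) x * conj ((χ : G → ℂ) y) / (χ : G → ℂ) 1 := by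
  let φ : G → ℂ := fun g => if PartIn p Q g then 1 else 0
  have hφ : IsClassFunction G φ := fun g k => by
    simp only [φ, partIn_conj]
  have hN : (Nat.card G : ℂ) ≠ 0 := Chars.natCard_ne_zero
  have hq : (Nat.card P : ℂ) ≠ 0 := Chars.natCard_ne_zero
  have hcoef : ∀ χ : IrrCharacter G, (e : ℂ) * (Nat.card P : ℂ) * classInner φ (χ : G → ℂ) =
      conj (∑ u ∈ Q, secAvg p χ u) := by
    intro χ
    have h := congrArg conj (sum_partIn P hP hC χ Q e hQ he)
    simp only [map_mul, map_div₀, map_natCast, map_sum] at h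
    rw [map_sum, classInner]
    simp only [φ, ite_mul, one_mul, zero_mul]
    rw [← sum_filter]
    calc _ = (Nat.card P : ℂ) * (Nat.card G : ℂ)⁻¹ *
          ((e : ℂ) * ∑ g ∈ univ.filter (PartIn p Q), conj ((χ : G → ℂ) g)) := by ring
      _ = _ := by
          rw [show (univ.filter (PartIn p Q)) = univ.filter
            (fun g : G => ∃ u ∈ Q, IsConj u (g ^ Blocks.pPartExp G p)) from Finset.filter_congr (fun _ _ => Iff.rfl), h]
          field_simp
  have hcount : ((#{k : G | PartIn p Q (x * (k * y⁻¹ * k⁻¹))} : ℕ) : ℂ) =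
      ∑ χ : IrrCharacter G, classInner φ (χ : G → ℂ) *
        ((Nat.card G : ℂ) * (χ : G → ℂ) x * (χ : G → ℂ) y⁻¹ / (χ : G → ℂ) 1) := by
    rw [card_filter, Nat.cast_sum]
    simp only [← CharCount.sum_conj_mul, mul_sum]
    rw [sum_comm]
    refine sum_congr rfl fun k _ => ?_
    rw [← Chars.isClassFunction_apply_eq_sum_classInner hφ]
    simp only [φ]
    split_ifs <;> simp
  rw [hcount, mul_sum, mul_sum,
    ← sum_subset (subset_univ (principalBlock M G).toFinset) (fun χ _ hχ => by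
      rw [← mul_assoc, hcoef, sum_eq_zero fun u hu => secAvg_eq_zero P hP hC hM
        (fun h => hχ (Set.mem_toFinset.mpr h)) (hQ u hu).1 (hQ u hu).2, map_zero, zero_mul])]
  refine sum_congr rfl fun χ hχ => ?_
  rw [← mul_assoc, hcoef, sum_congr rfl fun u hu => secAvg_eq P hP hC hM
    (Set.mem_toFinset.mp hχ) (hQ u hu).1 (hQ u hu).2, Chars.irr_inv]
  ring

theorem partIn_nonidentity (g : G) :
    PartIn p ((univ.filter (· ∈ (P : Subgroup G))).erase 1) g ↔ p ∣ orderOf g := by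
  obtain ⟨w, hw⟩ := Blocks.exists_isPPart (p := p) g
  have hwg : w = g ^ Blocks.pPartExp G p := Blocks.isPPart_iff.mp hw
  constructor
  · rintro ⟨u, hu, hc⟩
    by_contra h
    have h1 := Blocks.isPPart_unique (Blocks.isPPart_one_of_pRegular h) hw
    rw [← hwg, ← h1] at hc
    exact (mem_erase.mp hu).1 (isConj_one_left.mp hc)
  · intro h
    have hw1 : w ≠ 1 := Blocks.isPPart_ne_one hw h
    obtain ⟨z, -, -, ⟨k, hk⟩, -⟩ := hw
    obtain ⟨R, hR⟩ := (IsPGroup.of_card (n := k) (G := zpowers w)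
      (by rw [Nat.card_zpowers, hk])).exists_le_sylow
    obtain ⟨c, hc⟩ := MulAction.exists_smul_eq G R P
    refine ⟨c * w * c⁻¹, mem_erase.mpr ⟨fun h0 => hw1 (conj_eq_one_iff.mp h0), ?_⟩,
      isConj_iff.mpr ⟨c⁻¹, by rw [← hwg]; group⟩⟩
    simp only [mem_filter, mem_univ, true_and]
    rw [← hc]
    exact Subgroup.mem_map.mpr ⟨w, hR (mem_zpowers w), rfl⟩

end Cfsg.Agent.Lib.PairPSolv
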