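import Mathlib
import Cfsg.Agent.Lib.PSolvable.HallHigman
import Cfsg.Agent.Lib.Blocks.PPart
import Cfsg.Agent.Lib.FusionMod.Basic

/-!
# Pairs of elements of order p generating a p-solvable subgroup, abelian Sylow p-subgroups
-/

set_option autoImplicit false

namespace Cfsg.Agent.Lib.PairPSolv

open Cfsg Subgroup
open Cfsg.Agent.Lib

universe u

variable {G : Type u} [Group G] [Finite G] {p : ℕ} [hp : Fact p.Prime]

theorem commute_of_mem_pGroup (P : Sylow p G) (hP : IsMulCommutative (P : Subgroup G))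
    {Q : Subgroup G} (hQ : IsPGroup p Q) {a b : G} (ha : a ∈ Q) (hb : b ∈ Q) : Commute a b := by
  obtain ⟨R, hR⟩ := hQ.exists_le_sylow
  obtain ⟨g, hg⟩ := MulAction.exists_smul_eq G R P
  have hmem : ∀ c ∈ Q, g * c * g⁻¹ ∈ (P : Subgroup G) := fun c hc => by
    rw [← hg]
    exact Subgroup.mem_map.mpr ⟨c, hR hc, rfl⟩
  have h : (g * a * g⁻¹) * (g * b * g⁻¹) = (g * b * g⁻¹) * (g * a * g⁻¹) :=
    congrArg Subtype.val (hP.is_comm.comm ⟨_, hmem a ha⟩ ⟨_, hmem b hb⟩)
  have h' : g * (a * b) * g⁻¹ = g * (b * a) * g⁻¹ := by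
    calc g * (a * b) * g⁻¹ = (g * a * g⁻¹) * (g * b * g⁻¹) := by group
      _ = (g * b * g⁻¹) * (g * a * g⁻¹) := h
      _ = g * (b * a) * g⁻¹ := by group
  show a * b = b * a
  simpa using h'

/-- In a p-solvable group with abelian p-subgroups every p-element lies in O_{p',p}. -/
theorem mk_mem_pCore {H : Type u} [Group H] [Finite H] (hs : IsPSolvable p H)
    (hcomm : ∀ Q : Subgroup H, IsPGroup p Q → ∀ a ∈ Q, ∀ b ∈ Q, Commute a b)
    {u : H} (hu : IsPGroup p (zpowers u)) :
    (QuotientGroup.mk' (pPrimeCore p H) u) ∈ pCore p (H ⧸ pPrimeCore p H) := by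
  have := PSolvable.pPrimeCore_characteristic (p := p) (G := H)
  have hN : (pPrimeCore p H).Normal := inferInstance
  set φ := QuotientGroup.mk' (pPrimeCore p H)
  obtain ⟨S, hS⟩ := hu.exists_le_sylow
  let S' := S.mapSurjective (QuotientGroup.mk'_surjective (pPrimeCore p H))
  apply PSolvable.centralizer_pCore_le_of_isPSolvable (PSolvable.isPSolvable_quotient hs _)
    PSolvable.pPrimeCore_quotient_eq_bot
  rw [mem_centralizer_iff]
  intro w hw
  have hw' : w ∈ (S' : Subgroup _) := PSolvable.pCore_le_sylow S' hw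
  obtain ⟨s, hs', rfl⟩ := (show w ∈ (S : Subgroup H).map φ from hw')
  rw [← map_mul, ← map_mul, (hcomm _ S.isPGroup' s hs' u (hS (mem_zpowers u))).eq]

theorem commute_of_mem_pCore_quotient {H : Type u} [Group H] [Finite H]
    (hcomm : ∀ Q : Subgroup H, IsPGroup p Q → ∀ a ∈ Q, ∀ b ∈ Q, Commute a b)
    [(pPrimeCore p H).Normal] {a b : H ⧸ pPrimeCore p H}
    (ha : a ∈ pCore p (H ⧸ pPrimeCore p H)) (hb : b ∈ pCore p (H ⧸ pPrimeCore p H)) :
    Commute a b := by
  obtain ⟨S⟩ := (inferInstance : Nonempty (Sylow p H))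
  let S' := S.mapSurjective (QuotientGroup.mk'_surjective (pPrimeCore p H))
  obtain ⟨s, hs, rfl⟩ := (show a ∈ (S : Subgroup H).map (QuotientGroup.mk' _) from
    PSolvable.pCore_le_sylow S' ha)
  obtain ⟨t, ht, rfl⟩ := (show b ∈ (S : Subgroup H).map (QuotientGroup.mk' _) from
    PSolvable.pCore_le_sylow S' hb)
  exact (hcomm _ S.isPGroup' s hs t ht).map _

theorem isPGroup_zpowers_of_orderOf {x : G} (h : orderOf x = p) : IsPGroup p (zpowers x) :=
  IsPGroup.of_card (n := 1) (by rw [Nat.card_zpowers, h, pow_one])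

theorem eq_one_of_pElement_of_regular {x : G} {k : ℕ} (hk : orderOf x = p ^ k)
    (h : ¬ p ∣ orderOf x) : x = 1 := by
  rcases k with _ | k
  · exact orderOf_eq_one_iff.mp (by rw [hk, pow_zero])
  · exact absurd (hk ▸ dvd_pow_self p (Nat.succ_ne_zero k)) h

variable (P : Sylow p G) (hP : IsMulCommutative (P : Subgroup G))
include hP

/-- The consequences for the product of two elements of order p. -/
theorem pair_facts {u v : G} (hu : orderOf u = p) (hv : orderOf v = p)
    (hs : IsPSolvable p (closure ({u, v} : Set G))) :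
    (∀ w, IsPPart p (u * v⁻¹) w → w ^ p = 1) ∧
    (¬ p ∣ orderOf (u * v⁻¹) → IsConj v u ∧
      ∀ i : ℕ, ¬ p ∣ orderOf (u * (v ^ i)⁻¹) → v ^ i = v) := by
  set H := closure ({u, v} : Set G)
  let a : H := ⟨u, subset_closure (by simp)⟩
  let b : H := ⟨v, subset_closure (by simp)⟩
  have hcomm : ∀ Q : Subgroup H, IsPGroup p Q → ∀ c ∈ Q, ∀ d ∈ Q, Commute c d := by
    intro Q hQ c hc d hd
    exact Subtype.ext (commute_of_mem_pGroup P hP (hQ.map H.subtype) (mem_map_of_mem _ hc)
      (mem_map_of_mem _ hd)).eq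
  have := PSolvable.pPrimeCore_characteristic (p := p) (G := H)
  have hN : (pPrimeCore p H).Normal := inferInstance
  set φ := QuotientGroup.mk' (pPrimeCore p H) with hφ
  have hoa : orderOf a = p := (Subgroup.orderOf_mk u _).trans hu
  have hob : orderOf b = p := (Subgroup.orderOf_mk v _).trans hv
  have hA : φ a ∈ pCore p _ := mk_mem_pCore hs hcomm (isPGroup_zpowers_of_orderOf hoa)
  have hB : φ b ∈ pCore p _ := mk_mem_pCore hs hcomm (isPGroup_zpowers_of_orderOf hob)
  have hab : Commute (φ a) (φ b) := commute_of_mem_pCore_quotient hcomm hA hB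
  have hpa : φ a ^ p = 1 := by rw [← map_pow, orderOf_dvd_iff_pow_eq_one.mp hoa.dvd, map_one]
  have hpb : φ b ^ p = 1 := by rw [← map_pow, orderOf_dvd_iff_pow_eq_one.mp hob.dvd, map_one]
  have hker : ∀ c : H, φ c = 1 → c ∈ pPrimeCore p H := fun c hc =>
    (QuotientGroup.eq_one_iff c).mp hc
  have hregH : ∀ c : H, c ∈ pPrimeCore p H → ¬ p ∣ orderOf c := fun c hc h =>
    PSolvable.pPrimeCore_not_dvd (h.trans (Subgroup.orderOf_dvd_natCard _ hc))
  -- a regular product forces equal images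
  have hkey : ∀ i : ℕ, ¬ p ∣ orderOf (u * (v ^ i)⁻¹) → φ a = φ b ^ i := by
    intro i hi
    have hmem : φ (a * (b ^ i)⁻¹) ∈ pCore p _ := by
      rw [map_mul, map_inv, map_pow]
      exact mul_mem hA (inv_mem (pow_mem hB i))
    obtain ⟨k, hk⟩ := (IsPGroup.iff_orderOf.mp PSolvable.pCore_isPGroup) ⟨_, hmem⟩
    rw [Subgroup.orderOf_mk] at hk
    have hreg : ¬ p ∣ orderOf (φ (a * (b ^ i)⁻¹)) := fun h => hi (by
      have h1 := h.trans (orderOf_map_dvd φ (a * (b ^ i)⁻¹))
      rwa [← Subgroup.orderOf_coe] at h1)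
    have h1 := eq_one_of_pElement_of_regular hk hreg
    rwa [map_mul, map_inv, map_pow, mul_inv_eq_one] at h1
  refine ⟨fun w hw => ?_, fun hreg => ?_⟩
  · have hgp : (a * b⁻¹) ^ p ∈ pPrimeCore p H := hker _ (by
      rw [map_pow, map_mul, map_inv, (hab.inv_right).mul_pow, inv_pow, hpa, hpb, inv_one, mul_one])
    have hr : ¬ p ∣ orderOf ((u * v⁻¹) ^ p) := fun h => hregH _ hgp (by
      rw [← Subgroup.orderOf_coe]
      simpa [a, b] using h)
    rw [Blocks.isPPart_iff] at hw
    rw [hw, ← pow_mul, mul_comm, pow_mul]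
    exact Blocks.pow_pPartExp_of_pRegular hr
  · have heq : φ a = φ b := by
      have h1 := hkey 1 (by simpa using hreg)
      rwa [pow_one] at h1
    refine ⟨?_, fun i hi => ?_⟩
    · -- conjugacy inside the preimage of the centralizer of the common image
      let L : Subgroup H := (centralizer ({φ a} : Set _)).comap φ
      have haL : a ∈ L := mem_centralizer_singleton_iff.mpr rfl
      have hbL : b ∈ L := mem_centralizer_singleton_iff.mpr (by rw [heq])
      have hpg : ∀ c : L, orderOf (c : H) = p → IsPGroup p (zpowers c) := fun c hc =>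
        isPGroup_zpowers_of_orderOf (by rwa [← Subgroup.orderOf_coe])
      obtain ⟨S, hS⟩ := (hpg ⟨a, haL⟩ hoa).exists_le_sylow
      obtain ⟨T, hT⟩ := (hpg ⟨b, hbL⟩ hob).exists_le_sylow
      obtain ⟨l, hl⟩ := MulAction.exists_smul_eq L T S
      have hlb : l * ⟨b, hbL⟩ * l⁻¹ ∈ (S : Subgroup L) := by
        rw [← hl]
        exact Subgroup.mem_map.mpr ⟨_, hT (mem_zpowers _), rfl⟩
      have hd : l * ⟨b, hbL⟩ * l⁻¹ * (⟨a, haL⟩ : L)⁻¹ ∈ (S : Subgroup L) :=
        mul_mem hlb (inv_mem (hS (mem_zpowers _)))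
      obtain ⟨k, hk⟩ := (IsPGroup.iff_orderOf.mp S.isPGroup') ⟨_, hd⟩
      rw [Subgroup.orderOf_mk] at hk
      have hone : φ ((l : H) * b * (l : H)⁻¹ * a⁻¹) = 1 := by
        have hlc : φ (l : H) * φ a = φ a * φ (l : H) := mem_centralizer_singleton_iff.mp l.2
        rw [map_mul, map_mul, map_mul, map_inv, map_inv, ← heq, hlc]
        group
      have h1 := eq_one_of_pElement_of_regular hk (by
        rw [← Subgroup.orderOf_coe]
        exact hregH _ (hker _ hone))
      refine isConj_iff.mpr ⟨((l : H) : G), ?_⟩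
      have h2 := congrArg (fun c : L => ((c : H) : G)) (mul_inv_eq_one.mp h1)
      simpa [a, b] using h2
    · have h1 : φ b ^ i = φ b := (hkey i hi).symm.trans heq
      have hmem : b ^ i * b⁻¹ ∈ pPrimeCore p H := hker _ (by
        rw [map_mul, map_pow, map_inv, h1, mul_inv_cancel])
      have h2 := FusionMod.eq_one_of_mem_pPrimeCore (isPGroup_zpowers_of_orderOf hob)
        (mul_mem (pow_mem (mem_zpowers b) i) (inv_mem (mem_zpowers b))) hmem
      simpa [b] using congrArg Subtype.val (mul_inv_eq_one.mp h2)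

end Cfsg.Agent.Lib.PairPSolv
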