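import Mathlib
import Cfsg.Agent.Lib.PairPSolv.Pairs
import Cfsg.Agent.Lib.PairPSolv.Count
import Cfsg.Agent.Lib.BrauerSuzukiQ.Values
import Cfsg.Agent.Lib.BSW.Order

/-!
# One class of p-elements is impossible for odd p
-/

set_option autoImplicit false
set_option linter.unusedSectionVars false

namespace Cfsg.Agent.Lib.PairPSolv

open Cfsg Subgroup Finset
open Cfsg.Agent.Lib
open scoped ComplexConjugate Classical

universe u

variable {G : Type u} [Group G] [Fintype G] {p : ℕ} [hp : Fact p.Prime]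

/-- The pair hypothesis. -/
def PairsPSolvable (p : ℕ) (G : Type u) [Group G] : Prop :=
  ∀ x y : G, orderOf x = p → orderOf y = p → IsPSolvable p (closure ({x, y} : Set G))

variable (P : Sylow p G) (hP : IsMulCommutative (P : Subgroup G))

include hP in
theorem regular_count_le (hpairs : PairsPSolvable p G) {x : G} (hx : orderOf x = p)
    (g : ℕ → G) (hg : ∀ i, 1 ≤ i → i < p → g i * x * (g i)⁻¹ = x ^ i) :
    #{k : G | ¬ p ∣ orderOf (x * (k * x⁻¹ * k⁻¹))} * (p - 1) ≤ Nat.card G := by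
  have hp2 := hp.out.two_le
  rw [Nat.card_eq_fintype_card, ← card_univ, ← Nat.card_Ico 1 p, ← card_product]
  refine card_le_card_of_injOn (fun t => t.1 * g t.2) (fun _ _ => by simp) ?_
  rintro ⟨k, i⟩ hki ⟨l, j⟩ hlj (h : k * g i = l * g j)
  simp only [coe_product, Set.mem_prod, coe_filter, mem_univ, true_and, Set.mem_setOf_eq, coe_Ico,
    Set.mem_Ico] at hki hlj
  obtain ⟨hk, hi1, hip⟩ := hki
  obtain ⟨hl, hj1, hjp⟩ := hlj
  set v := k * x * k⁻¹
  set w := l * x * l⁻¹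
  have hv : orderOf v = p := by
    rw [show v = MulAut.conj k x from rfl, MulEquiv.orderOf_eq, hx]
  have hw : orderOf w = p := by
    rw [show w = MulAut.conj l x from rfl, MulEquiv.orderOf_eq, hx]
  have hpow : v ^ i = w ^ j := by
    simp only [v, w, conj_pow, ← hg i hi1 hip, ← hg j hj1 hjp]
    calc k * (g i * x * (g i)⁻¹) * k⁻¹ = (k * g i) * x * (k * g i)⁻¹ := by group
      _ = _ := by rw [h]; group
  obtain ⟨s, -, hs⟩ := Nat.exists_mul_mod_eq_one_of_coprime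
    (Nat.Coprime.symm ((hp.out.coprime_iff_not_dvd).mpr (Nat.not_dvd_of_pos_of_lt hj1 hjp)))
    hp.out.one_lt
  have hwv : w = v ^ (i * s) := by
    rw [pow_mul, hpow, ← pow_mul]
    exact ((pow_mod_orderOf w (j * s)).symm.trans (by rw [hw, hs, pow_one])).symm
  have hreg : ∀ m : G, x * (m * x⁻¹ * m⁻¹) = x * (m * x * m⁻¹)⁻¹ := fun m => by group
  rw [hreg] at hk hl
  have hvw : w = v := by
    have h1 := ((pair_facts P hP hx hv (hpairs x v hx hv)).2 hk).2 (i * s) (hwv ▸ hl)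
    rwa [← hwv] at h1
  rw [hvw] at hpow
  have hij : i = j := pow_injOn_Iio_orderOf (by rw [Set.mem_Iio, hv]; exact hip)
    (by rw [Set.mem_Iio, hv]; exact hjp) hpow
  subst hij
  exact Prod.ext (mul_right_cancel h) rfl

include hP in
theorem no_one_class [IsSimpleGroup G] (hp2 : p ≠ 2) (hP1 : (P : Subgroup G) ≠ ⊥)
    (hC : ∀ u ∈ (P : Subgroup G), u ≠ 1 → HasNormalPComplement p (centralizer ({u} : Set G)))
    (hexp : ∀ u ∈ (P : Subgroup G), u ^ p = 1)
    (hone : ∀ u ∈ (P : Subgroup G), ∀ w ∈ (P : Subgroup G), u ≠ 1 → w ≠ 1 → IsConj u w)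
    (hpairs : PairsPSolvable p G) : False := by
  obtain ⟨M, hM⟩ := CharCount.exists_isPModular p hp.out
  haveI := Blocks.isPModular_isPrime hM
  obtain ⟨x, hxP, hx1⟩ : ∃ x ∈ (P : Subgroup G), x ≠ 1 := by
    obtain ⟨y, hy⟩ := Subgroup.ne_bot_iff_exists_ne_one.mp hP1
    exact ⟨y, y.2, fun h => hy (Subtype.ext h)⟩
  have hxo : orderOf x = p := orderOf_eq_prime (hexp x hxP) hx1
  set Q := (univ.filter (· ∈ (P : Subgroup G))).erase 1 with hQdef
  have hQ : ∀ u ∈ Q, u ∈ (P : Subgroup G) ∧ u ≠ 1 := fun u hu => by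
    simpa [hQdef, and_comm] using hu
  set q := Nat.card (P : Subgroup G) with hqdef
  have hcardQ : #Q = q - 1 := by
    rw [hQdef, card_erase_of_mem (by simp [one_mem]), hqdef, Nat.card_eq_fintype_card,
      Fintype.card_subtype]
  have he : ∀ u ∈ Q, #{w ∈ Q | IsConj u w} = q - 1 := fun u hu => by
    rw [filter_true_of_mem fun w hw => hone u (hQ u hu).1 w (hQ w hw).1 (hQ u hu).2 (hQ w hw).2,
      hcardQ]
  obtain ⟨a, ha⟩ := IsPGroup.iff_card.mp P.isPGroup'
  have hqp : p ≤ q := by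
    rw [← hxo]
    exact Nat.le_of_dvd Nat.card_pos (Subgroup.orderOf_dvd_natCard _ hxP)
  have hp3 : 3 ≤ p := by have := hp.out.two_le; omega
  set B := (principalBlock M G).toFinset with hB
  have hN : (0 : ℝ) < Nat.card G := by exact_mod_cast Nat.card_pos
  -- integral values
  have hval : ∀ χ : IrrCharacter G, ∃ b : ℤ, ∃ d : ℕ, (χ : G → ℂ) 1 = d ∧ 0 < d ∧
      (∀ u ∈ Q, (χ : G → ℂ) u = b) ∧
      ((χ : G → ℂ) ≠ (fun _ => 1) → b + q ≤ d) := by
    intro χ
    obtain ⟨d, hd0, hd⟩ := Chars.isIrrCharacter_exists_degree_pos χ.2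
    have hconst : ∀ u ∈ Q, (χ : G → ℂ) u = (χ : G → ℂ) x := fun u hu =>
      Chars.isClassFunction_apply_eq (Chars.irr_isClassFunction χ)
        (hone x hxP u (hQ u hu).1 hx1 (hQ u hu).2)
    obtain ⟨m, hm⟩ := CharCount.exists_nat_sum_subgroup χ (P : Subgroup G)
    have hsum : ∑ y : (P : Subgroup G), (χ : G → ℂ) y = d + (#Q : ℕ) * (χ : G → ℂ) x := by
      rw [← sum_subtype (univ.filter (· ∈ (P : Subgroup G))) (by simp) (fun g => (χ : G → ℂ) g),
        ← add_sum_erase _ _ (show (1 : G) ∈ univ.filter (· ∈ (P : Subgroup G)) by simp [one_mem]),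
        hd, ← hQdef, sum_congr rfl hconst, sum_const, nsmul_eq_mul]
    rw [hcardQ] at hsum
    rw [hm] at hsum
    have hq1 : ((q - 1 : ℕ) : ℂ) ≠ 0 := Nat.cast_ne_zero.mpr (by omega)
    obtain ⟨b, hb⟩ := BSW.exists_int_of_isIntegral_rat
      (Chars.isCharacter_isIntegral (Chars.irr_isCharacter χ) x)
      (r := ((q : ℚ) * m - d) / ((q - 1 : ℕ) : ℚ)) (by
        push_cast
        rw [eq_div_iff (by simpa using hq1)]
        linear_combination -hsum)
    refine ⟨b, d, hd, hd0, fun u hu => (hconst u hu).trans hb, fun hne => ?_⟩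
    rw [hb] at hsum
    have h1 : (q : ℤ) * m = d + ((q - 1 : ℕ) : ℤ) * b := by exact_mod_cast hsum
    push_cast [Nat.cast_sub (show 1 ≤ q by omega)] at h1
    have hle : b ≤ d := by
      obtain ⟨n, ρ, -, hρ⟩ := χ.2
      have h2 := Chars.norm_char_le (ρ := ρ) x
      rw [hρ, hb, Complex.norm_intCast] at h2
      have hn : (n : ℂ) = d := by rw [← hd, ← hρ, Representation.char_one]; simp
      rw [Module.finrank_fin_fun, Nat.cast_inj.mp hn] at h2
      exact_mod_cast (le_abs_self (b : ℝ)).trans h2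
    have hne' : b ≠ d := fun h2 => hne (BrauerSuzukiQ.eq_one_of_apply_eq χ hx1 (by
      rw [hb, hd, h2]; norm_cast))
    have h3 : (d : ℤ) - b = (q : ℤ) * (m - b) := by linarith
    have h4 : 0 < (m : ℤ) - b := by
      by_contra hcon
      nlinarith [show (0 : ℤ) < d - b by omega, show (0 : ℤ) ≤ (q : ℤ) by positivity]
    nlinarith [show (0 : ℤ) ≤ (q : ℤ) by positivity]
  choose b d hd hd0 hb hbq using hval
  have hxQ : x ∈ Q := by simp [hQdef, hxP, hx1]
  -- the count identity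
  set C := #{k : G | PartIn p Q (x * (k * x⁻¹ * k⁻¹))} with hCdef
  have hid := count_eq P hP hC hM (x := x) (y := x) Q (q - 1) hQ he
  have hterm : ∀ χ : IrrCharacter G,
      conj (∑ u ∈ Q, (χ : G → ℂ) u) * (χ : G → ℂ) x * conj ((χ : G → ℂ) x) / (χ : G → ℂ) 1 =
        (((q - 1 : ℕ) : ℝ) * ((b χ : ℝ) ^ 3 / (d χ : ℝ)) : ℝ) := fun χ => by
    rw [sum_congr rfl (hb χ), sum_const, hcardQ, nsmul_eq_mul, hb χ x hxQ, hd χ]
    simp only [map_mul, map_natCast, map_intCast]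
    push_cast
    ring
  rw [sum_congr rfl fun χ _ => hterm χ, ← hCdef] at hid
  have hidR : ((q - 1 : ℕ) : ℝ) * (q : ℝ) * (C : ℝ) =
      (Nat.card G : ℝ) * ∑ χ ∈ B, ((q - 1 : ℕ) : ℝ) * ((b χ : ℝ) ^ 3 / (d χ : ℝ)) := by
    rw [← hqdef] at hid
    exact_mod_cast hid
  have hq1R : (0 : ℝ) < ((q - 1 : ℕ) : ℝ) := by exact_mod_cast (show 0 < q - 1 by omega)
  rw [← mul_sum, ← mul_assoc, mul_assoc ((q - 1 : ℕ) : ℝ), mul_comm (Nat.card G : ℝ),
    mul_assoc ((q - 1 : ℕ) : ℝ)] at hidR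
  replace hidR := mul_left_cancel₀ hq1R.ne' hidR
  set S := ∑ χ ∈ B, (b χ : ℝ) ^ 3 / (d χ : ℝ) with hSdef
  -- regular products are few
  have hgex : ∀ i, ∃ g : G, 1 ≤ i → i < p → g * x * g⁻¹ = x ^ i := fun i => by
    by_cases h : 1 ≤ i ∧ i < p
    · have hne : x ^ i ≠ 1 := pow_ne_one_of_lt_orderOf (by omega) (by rw [hxo]; exact h.2)
      obtain ⟨g, hg⟩ := isConj_iff.mp (hone x hxP (x ^ i) (pow_mem hxP i) hx1 hne)
      exact ⟨g, fun _ _ => hg⟩
    · exact ⟨1, fun h1 h2 => absurd ⟨h1, h2⟩ h⟩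
  choose g hg using hgex
  have hR := regular_count_le P hP hpairs hxo g hg
  have hsplit := card_filter_add_card_filter_not (s := (univ : Finset G))
    (fun k : G => PartIn p Q (x * (k * x⁻¹ * k⁻¹)))
  rw [← hCdef, card_univ, ← Nat.card_eq_fintype_card,
    filter_congr (q := fun k : G => ¬ p ∣ orderOf (x * (k * x⁻¹ * k⁻¹)))
      (fun k _ => not_congr (partIn_nonidentity P hP hC _))] at hsplit
  have hClow : (Nat.card G : ℝ) * ((p : ℝ) - 2) ≤ (C : ℝ) * ((p : ℝ) - 1) := by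
    have h1 : ((#{k : G | ¬ p ∣ orderOf (x * (k * x⁻¹ * k⁻¹))} : ℕ) : ℝ) * ((p : ℝ) - 1) ≤
        Nat.card G := by
      have h2 := (Nat.cast_le (α := ℝ)).mpr hR
      rw [Nat.cast_mul, Nat.cast_sub (by omega), Nat.cast_one] at h2
      exact h2
    have h3 : (C : ℝ) + ((#{k : G | ¬ p ∣ orderOf (x * (k * x⁻¹ * k⁻¹))} : ℕ) : ℝ) =
        Nat.card G := by exact_mod_cast hsplit
    nlinarith
  have hSlow : (q : ℝ) * ((p : ℝ) - 2) ≤ S * ((p : ℝ) - 1) := by
    by_contra hcon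
    push Not at hcon
    have hq0 : (0 : ℝ) ≤ q := Nat.cast_nonneg q
    nlinarith [mul_le_mul_of_nonneg_left hClow hq0, mul_lt_mul_of_pos_left hcon hN]
  -- the upper bound
  obtain ⟨one, honeχ⟩ : ∃ χ : IrrCharacter G, (χ : G → ℂ) = fun _ => 1 :=
    ⟨⟨_, Chars.isIrrCharacter_one⟩, rfl⟩
  have honeB : one ∈ B := by
    rw [hB, Set.mem_toFinset]
    show SameBlock M _ _
    rw [honeχ]
    exact fun k => by rw [sub_self]; exact Blocks.memLocalIdeal_zero
  have hb1 : b one = 1 := by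
    have h := hb one x hxQ
    rw [honeχ] at h
    simp only at h
    exact_mod_cast h.symm
  have hd1 : d one = 1 := by
    have h := hd one
    rw [honeχ] at h
    simp only at h
    exact_mod_cast h.symm
  have hsq : ∑ χ ∈ B, ((b χ : ℝ)) ^ 2 = (q : ℝ) := by
    have h := gram P hP hC hM hxP hx1 hxP hx1
    rw [if_pos (IsConj.refl x), sum_congr rfl fun χ _ => by
      rw [hb χ x hxQ, map_intCast], ← hqdef] at h
    simp only [sq]
    exact_mod_cast h
  have hdeg : ∑ χ ∈ B, (d χ : ℤ) * b χ = 0 := by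
    have h := sum_degree_mul P hP hC hM hxP hx1
    rw [sum_congr rfl fun χ _ => by rw [hd χ, hb χ x hxQ]] at h
    exact_mod_cast h
  have hne : ∀ χ ∈ B.erase one, (χ : G → ℂ) ≠ fun _ => 1 := fun χ hχ h =>
    (mem_erase.mp hχ).1 (Subtype.ext (h.trans honeχ.symm))
  have hsq' : ∑ χ ∈ B.erase one, ((b χ : ℝ)) ^ 2 = (q : ℝ) - 1 := by
    rw [sum_erase_eq_sub honeB, hsq, hb1]
    norm_num
  have hSeq : S = 1 + ∑ χ ∈ B.erase one, (b χ : ℝ) ^ 3 / (d χ : ℝ) := by
    rw [hSdef, ← add_sum_erase _ _ honeB, hb1, hd1]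
    norm_num
  have hbsq : ∀ χ ∈ B.erase one, (b χ : ℝ) ^ 2 ≤ (q : ℝ) - 1 := fun χ hχ =>
    hsq' ▸ single_le_sum (f := fun ζ => (b ζ : ℝ) ^ 2) (fun ζ _ => sq_nonneg _) hχ
  have hbound : ∀ K : ℝ, 0 < K → (∀ χ ∈ B.erase one, K * (b χ : ℝ) ≤ q) →
      S ≤ 1 + ((q : ℝ) - 1) / K := by
    intro K hK hKb
    rw [hSeq, ← hsq', sum_div]
    refine add_le_add le_rfl (sum_le_sum fun χ hχ => ?_)
    have hdpos : (0 : ℝ) < d χ := by exact_mod_cast hd0 χ
    rw [div_le_div_iff₀ hdpos hK]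
    by_cases hbn : (b χ : ℝ) ≤ 0
    · have : (b χ : ℝ) ^ 3 ≤ 0 := by nlinarith [sq_nonneg (b χ : ℝ)]
      nlinarith [sq_nonneg (b χ : ℝ)]
    · push Not at hbn
      have h1 : (b χ : ℝ) + q ≤ d χ := by exact_mod_cast hbq χ (hne χ hχ)
      nlinarith [sq_nonneg (b χ : ℝ), mul_le_mul_of_nonneg_right (hKb χ hχ) (sq_nonneg (b χ : ℝ))]
  have hqR : (p : ℝ) ≤ q := by exact_mod_cast hqp
  rcases le_or_gt 5 p with hp5 | hp5
  · have h2 := hbound 2 (by norm_num) fun χ hχ => by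
      nlinarith [hbsq χ hχ, sq_nonneg ((b χ : ℝ) - 1)]
    have hp5R : (5 : ℝ) ≤ p := by exact_mod_cast hp5
    nlinarith
  · have hpeq : p = 3 := by
      have : p ≠ 4 := fun h => by simpa [h] using (show ¬ (4 : ℕ).Prime by norm_num) (h ▸ hp.out)
      omega
    have hp3R : (p : ℝ) = 3 := by exact_mod_cast hpeq
    rw [hp3R] at hSlow
    rcases le_or_gt 9 q with hq9 | hq9
    · have hq9R : (9 : ℝ) ≤ q := by exact_mod_cast hq9
      have h2 := hbound 3 (by norm_num) fun χ hχ => by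
        nlinarith [hbsq χ hχ, sq_nonneg ((b χ : ℝ) - 2)]
      nlinarith
    · have hq3 : q = 3 := by
        rw [hqdef, ha, hpeq] at hq9 hqp ⊢
        rcases a with _ | _ | a
        · simp at hqp
        · norm_num
        · exact absurd hq9 (by have := Nat.one_le_pow a 3 (by norm_num); rw [pow_succ, pow_succ]; omega)
      have hq3R : (q : ℝ) = 3 := by exact_mod_cast hq3
      -- values ±1 and one of them negative
      have hb01 : ∀ χ ∈ B.erase one, b χ ≤ 1 := fun χ hχ => by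
        by_contra hcon
        have : (2 : ℝ) ≤ b χ := by exact_mod_cast (show 2 ≤ b χ by omega)
        nlinarith [hbsq χ hχ]
      obtain ⟨χ₀, hχ₀, hneg⟩ : ∃ χ ∈ B.erase one, b χ ≤ -1 := by
        by_contra hcon
        push Not at hcon
        rw [← add_sum_erase _ _ honeB, hb1, hd1] at hdeg
        have : (0 : ℤ) ≤ ∑ χ ∈ B.erase one, (d χ : ℤ) * b χ := sum_nonneg fun χ hχ =>
          mul_nonneg (by positivity) (by have := hcon χ hχ; omega)
        push_cast at hdeg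
        omega
      have hterm' : ∀ χ ∈ (B.erase one).erase χ₀, (b χ : ℝ) ^ 3 / (d χ : ℝ) ≤ (b χ : ℝ) ^ 2 / 4 := by
        intro χ hχ
        have hχ' := (mem_erase.mp hχ).2
        have hdpos : (0 : ℝ) < d χ := by exact_mod_cast hd0 χ
        rw [div_le_div_iff₀ hdpos (by norm_num)]
        rcases le_or_gt (b χ) 0 with hbn | hbn
        · have : (b χ : ℝ) ≤ 0 := by exact_mod_cast hbn
          nlinarith [sq_nonneg (b χ : ℝ)]
        · have hbeq : b χ = 1 := by have := hb01 χ hχ'; omega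
          have h1 := hbq χ (hne χ hχ')
          rw [hbeq, hq3] at h1
          have : (4 : ℝ) ≤ d χ := by exact_mod_cast (show 4 ≤ d χ by omega)
          rw [hbeq]; push_cast; linarith
      have h0 : (b χ₀ : ℝ) ^ 3 / (d χ₀ : ℝ) ≤ 0 := by
        have : (b χ₀ : ℝ) ≤ -1 := by exact_mod_cast hneg
        exact div_nonpos_of_nonpos_of_nonneg (by nlinarith [sq_nonneg (b χ₀ : ℝ)]) (Nat.cast_nonneg _)
      have h2 : ∑ χ ∈ B.erase one, (b χ : ℝ) ^ 3 / (d χ : ℝ) ≤ 1 / 4 := by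
        rw [← add_sum_erase _ _ hχ₀]
        have h3 : ∑ χ ∈ (B.erase one).erase χ₀, (b χ : ℝ) ^ 2 ≤ 1 := by
          rw [sum_erase_eq_sub hχ₀, hsq', hq3R]
          have : (1 : ℝ) ≤ (b χ₀ : ℝ) ^ 2 := by
            have : (b χ₀ : ℝ) ≤ -1 := by exact_mod_cast hneg
            nlinarith
          linarith
        have h4 := (sum_le_sum hterm').trans_eq (sum_div _ (fun χ => (b χ : ℝ) ^ 2) 4).symm
        linarith
      rw [hq3R] at hSlow
      linarith [hSeq]

end Cfsg.Agent.Lib.PairPSolv
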