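import Mathlib
import Cfsg.Prelude.Def_Transfer
import Cfsg.Agent.Lib.Chars.Ops
import Cfsg.Agent.Lib.Chars.Induced
import Cfsg.Agent.Lib.CharCount.Basic

/-!
# Fusion in a cyclic Sylow subgroup, indexed by ZMod
-/

set_option autoImplicit false
set_option linter.unusedSectionVars false

namespace Cfsg.Agent.Lib.PairPSolv

open Cfsg Subgroup Finset
open Cfsg.Agent.Lib
open scoped ComplexConjugate Classical

universe u

variable {G : Type u} [Group G] [Fintype G] {p : ℕ} [hp : Fact p.Prime]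

/-- A parametrisation of the cyclic Sylow subgroup P by ZMod q. -/
structure Param (P : Sylow p G) (q : ℕ) where
  pw : ZMod q → G
  map_add : ∀ i j, pw (i + j) = pw i * pw j
  inj : Function.Injective pw
  mem_iff : ∀ w, w ∈ (P : Subgroup G) ↔ ∃ i, pw i = w

theorem exists_param (P : Sylow p G) (hP : IsCyclic (P : Subgroup G)) :
    Nonempty (Param P (Nat.card (P : Subgroup G))) := by
  let e := zmodCyclicMulEquiv hP
  refine ⟨⟨fun i => (e (Multiplicative.ofAdd i) : G), fun i j => by simp [ofAdd_add, map_mul],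
    fun i j h => ?_, fun w => ⟨fun hw => ?_, ?_⟩⟩⟩
  · exact Multiplicative.ofAdd.injective (e.injective (Subtype.ext h))
  · exact ⟨Multiplicative.toAdd (e.symm ⟨w, hw⟩), by simp⟩
  · rintro ⟨i, rfl⟩
    exact (e _).2

namespace Param

variable {P : Sylow p G} {q : ℕ} (T : Param P q)

theorem map_zero : T.pw 0 = 1 := by
  have h := T.map_add 0 0
  rw [add_zero] at h
  exact mul_eq_left.mp h.symm

theorem eq_one_iff {i : ZMod q} : T.pw i = 1 ↔ i = 0 :=
  ⟨fun h => T.inj (h.trans T.map_zero.symm), fun h => h ▸ T.map_zero⟩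

theorem mem (i : ZMod q) : T.pw i ∈ (P : Subgroup G) := (T.mem_iff _).mpr ⟨i, rfl⟩

theorem map_nsmul (n : ℕ) (i : ZMod q) : T.pw (n • i) = T.pw i ^ n := by
  induction n with
  | zero => simp [T.map_zero]
  | succ n ih => rw [succ_nsmul, T.map_add, ih, pow_succ]

variable [NeZero q]

theorem map_mul (r i : ZMod q) : T.pw (r * i) = T.pw i ^ r.val := by
  rw [← T.map_nsmul, nsmul_eq_mul, ZMod.natCast_zmod_val]

include T in
theorem card_eq : Nat.card (P : Subgroup G) = q := by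
  rw [← Nat.card_zmod q]
  exact (Nat.card_congr (Equiv.ofBijective (fun i => (⟨T.pw i, T.mem i⟩ : (P : Subgroup G)))
    ⟨fun i j h => T.inj (congrArg Subtype.val h), fun w => by
      obtain ⟨i, hi⟩ := (T.mem_iff w).mp w.2
      exact ⟨i, Subtype.ext hi⟩⟩)).symm

/-- The scalars by which conjugation can act. -/
noncomputable def fus : Finset (ZMod q) := univ.filter fun r => IsConj (T.pw 1) (T.pw r)

theorem mem_fus {r : ZMod q} : r ∈ T.fus ↔ IsConj (T.pw 1) (T.pw r) := by simp [fus]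

theorem one_mem_fus : (1 : ZMod q) ∈ T.fus := T.mem_fus.mpr (IsConj.refl _)

theorem conj_fus {r : ZMod q} (hr : r ∈ T.fus) (i : ZMod q) : IsConj (T.pw i) (T.pw (r * i)) := by
  obtain ⟨c, hc⟩ := isConj_iff.mp (T.mem_fus.mp hr)
  refine isConj_iff.mpr ⟨c, ?_⟩
  rw [mul_comm r i, T.map_mul i r, ← hc, conj_pow, ← T.map_mul, mul_one]

include T in
theorem isMulCommutative : IsMulCommutative (P : Subgroup G) :=
  ⟨⟨fun a b => by
    obtain ⟨i, hi⟩ := (T.mem_iff a).mp a.2
    obtain ⟨j, hj⟩ := (T.mem_iff b).mp b.2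
    apply Subtype.ext
    show (a : G) * b = b * a
    rw [← hi, ← hj, ← T.map_add, ← T.map_add, add_comm]⟩⟩

theorem exists_scalar {n : G} (hn : n ∈ normalizer ((P : Subgroup G) : Set G)) :
    ∃ r : ZMod q, ∀ i, n * T.pw i * n⁻¹ = T.pw (r * i) := by
  obtain ⟨r, hr⟩ := (T.mem_iff _).mp ((mem_normalizer_iff.mp hn (T.pw 1)).mp (T.mem 1))
  refine ⟨r, fun i => ?_⟩
  rw [mul_comm r i, T.map_mul i r, hr, conj_pow, ← T.map_mul, mul_one]

theorem exists_fus_of_conj {i j : ZMod q} (h : IsConj (T.pw i) (T.pw j)) :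
    ∃ r ∈ T.fus, r * i = j := by
  haveI := T.isMulCommutative
  obtain ⟨c, hc⟩ := isConj_iff.mp h
  obtain ⟨n, hn, hnc⟩ := Sylow.conj_eq_normalizer_conj_of_mem P (T.pw i) c⁻¹ (T.mem i)
    (by rw [inv_inv, hc]; exact T.mem j)
  rw [inv_inv, hc] at hnc
  obtain ⟨r, hr⟩ := T.exists_scalar (inv_mem hn)
  refine ⟨r, T.mem_fus.mpr (isConj_iff.mpr ⟨n⁻¹, by rw [hr 1, mul_one]⟩), T.inj ?_⟩
  rw [← hr i, hnc, inv_inv]

theorem exists_inv_fus {r : ZMod q} (hr : r ∈ T.fus) : ∃ s ∈ T.fus, s * r = 1 :=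
  T.exists_fus_of_conj (T.mem_fus.mp hr).symm

theorem mul_mem_fus {r s : ZMod q} (hr : r ∈ T.fus) (hs : s ∈ T.fus) : r * s ∈ T.fus :=
  T.mem_fus.mpr ((T.mem_fus.mp hs).trans (T.conj_fus hr s))

/-- An element of the normalizer fixing a non-identity element of P centralizes P. -/
theorem scalar_eq_one {n : G} (hn : n ∈ normalizer ((P : Subgroup G) : Set G)) {r : ZMod q}
    (hr : ∀ i, n * T.pw i * n⁻¹ = T.pw (r * i)) {i : ZMod q} (hi : i ≠ 0) (hri : r * i = i) :
    r = 1 := by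
  obtain ⟨a, ha⟩ := IsPGroup.iff_card.mp P.isPGroup'
  rw [T.card_eq] at ha
  have hiter : ∀ (m : ℕ) (j : ZMod q), n ^ m * T.pw j * (n ^ m)⁻¹ = T.pw (r ^ m * j) := by
    intro m
    induction m with
    | zero => simp
    | succ m ih =>
      intro j
      rw [pow_succ' r, mul_assoc r, ← hr, ← ih j, pow_succ']
      group
  -- the image of n has order prime to p
  have hm : ∃ m : ℕ, ¬ p ∣ m ∧ r ^ m = 1 := by
    set N := normalizer ((P : Subgroup G) : Set G)
    have hPN : (P : Subgroup G) ≤ N := le_normalizer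
    let P' := (P : Subgroup G).subgroupOf N
    have hP' : P'.Normal := normal_subgroupOf_iff_le_normalizer hPN |>.mpr le_rfl
    refine ⟨orderOf (QuotientGroup.mk' P' ⟨n, hn⟩), fun h => ?_, ?_⟩
    · exact P.not_dvd_index ((h.trans ((_root_.orderOf_dvd_natCard _).trans
        (dvd_of_eq (index_eq_card P').symm))).trans (relIndex_dvd_index_of_le hPN))
    · have h1 := pow_orderOf_eq_one (QuotientGroup.mk' P' ⟨n, hn⟩)
      rw [← _root_.map_pow] at h1
      have h2 : n ^ orderOf (QuotientGroup.mk' P' ⟨n, hn⟩) ∈ (P : Subgroup G) := by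
        have := (QuotientGroup.eq_one_iff _).mp h1
        simpa [P', mem_subgroupOf] using this
      have h3 := hiter (orderOf (QuotientGroup.mk' P' ⟨n, hn⟩)) 1
      rw [mul_one] at h3
      refine T.inj ?_
      rw [← h3]
      have hcomm := T.isMulCommutative.is_comm.comm ⟨_, h2⟩ ⟨_, T.mem 1⟩
      have h4 := congrArg Subtype.val hcomm
      simp only [MulMemClass.mk_mul_mk] at h4
      rw [h4]
      group
  obtain ⟨m, hmp, hrm⟩ := hm
  -- r is congruent to one modulo p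
  have hdiv : (p : ZMod q) ∣ r - 1 := by
    by_contra hnd
    apply hi
    have hunit : IsUnit (r - 1) := by
      rw [← ZMod.natCast_zmod_val (r - 1)] at hnd ⊢
      rw [ZMod.isUnit_iff_coprime]
      refine Nat.Coprime.coprime_dvd_right (dvd_of_eq ha)
        (Nat.Coprime.pow_right _ ((hp.out.coprime_iff_not_dvd.mpr fun hd => hnd ?_).symm))
      obtain ⟨c, hc⟩ := hd
      exact ⟨c, by rw [hc, Nat.cast_mul]⟩
    exact hunit.mul_right_eq_zero.mp (by rw [sub_mul, hri, one_mul, sub_self])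
  have hpa : r ^ (p ^ a) = 1 := by
    have h := dvd_sub_pow_of_dvd_sub hdiv a
    rw [one_pow] at h
    have hz : ((p : ZMod q) ^ (a + 1)) = 0 := by
      rw [pow_succ, ← Nat.cast_pow, ← ha, ZMod.natCast_self, zero_mul]
    rw [hz, zero_dvd_iff] at h
    exact sub_eq_zero.mp h
  have hg := pow_gcd_eq_one.mpr ⟨hrm, hpa⟩
  rwa [Nat.Coprime.gcd_eq_one ((hp.out.coprime_iff_not_dvd.mpr hmp).symm.pow_right a), pow_one] at hg

theorem fus_free {r : ZMod q} (hr : r ∈ T.fus) {i : ZMod q} (hi : i ≠ 0) (hri : r * i = i) :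
    r = 1 := by
  haveI := T.isMulCommutative
  obtain ⟨c, hc⟩ := isConj_iff.mp (T.mem_fus.mp hr)
  obtain ⟨n, hn, hnc⟩ := Sylow.conj_eq_normalizer_conj_of_mem P (T.pw 1) c⁻¹ (T.mem 1)
    (by rw [inv_inv, hc]; exact T.mem r)
  rw [inv_inv, hc] at hnc
  obtain ⟨s, hs⟩ := T.exists_scalar (inv_mem hn)
  have hsr : s = r := T.inj (by rw [hnc, ← mul_one s, ← hs 1, inv_inv])
  subst hsr
  exact T.scalar_eq_one (inv_mem hn) hs hi hri

theorem fus_inj {r s : ZMod q} (hr : r ∈ T.fus) (hs : s ∈ T.fus) {i : ZMod q} (hi : i ≠ 0)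
    (h : r * i = s * i) : r = s := by
  obtain ⟨r', hr', hrr⟩ := T.exists_inv_fus hr
  have h1 := T.fus_free (T.mul_mem_fus hr' hs) hi (by rw [mul_assoc, ← h, ← mul_assoc, hrr, one_mul])
  calc r = r * 1 := (mul_one r).symm
    _ = r * (r' * s) := by rw [h1]
    _ = (r' * r) * s := by ring
    _ = s := by rw [hrr, one_mul]

theorem fus_mul_ne_zero {r : ZMod q} (hr : r ∈ T.fus) {i : ZMod q} (hi : i ≠ 0) : r * i ≠ 0 := by
  intro h
  obtain ⟨s, -, hsr⟩ := T.exists_inv_fus hr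
  exact hi (by rw [← one_mul i, ← hsr, mul_assoc, h, mul_zero])

theorem card_conj {i : ZMod q} (hi : i ≠ 0) (Q : Finset G)
    (hQ : ∀ r ∈ T.fus, T.pw (r * i) ∈ Q) (hQP : ∀ w ∈ Q, w ∈ (P : Subgroup G)) :
    #{w ∈ Q | IsConj (T.pw i) w} = #T.fus := by
  refine (card_bij (fun r _ => T.pw (r * i)) (fun r hr => mem_filter.mpr ⟨hQ r hr, T.conj_fus hr i⟩)
    (fun r hr s hs h => T.fus_inj hr hs hi (T.inj h)) fun w hw => ?_).symm
  obtain ⟨hwQ, hwc⟩ := mem_filter.mp hw
  obtain ⟨j, rfl⟩ := (T.mem_iff w).mp (hQP w hwQ)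
  obtain ⟨r, hr, hrj⟩ := T.exists_fus_of_conj hwc
  exact ⟨r, hr, by rw [hrj]⟩

include T in
theorem hasNormalPComplement_centralizer {u : G} (hu : u ∈ (P : Subgroup G)) (hu1 : u ≠ 1) :
    HasNormalPComplement p (centralizer ({u} : Set G)) := by
  set C := centralizer ({u} : Set G)
  have hPC : (P : Subgroup G) ≤ C := fun w hw => mem_centralizer_singleton_iff.mpr
    (congrArg Subtype.val (T.isMulCommutative.is_comm.comm ⟨w, hw⟩ ⟨u, hu⟩))
  let PC : Sylow p C := P.subtype hPC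
  obtain ⟨i, rfl⟩ := (T.mem_iff u).mp hu
  refine ⟨PC, _, inferInstance, MonoidHom.ker_transferSylow_isComplement' PC fun n hn => ?_⟩
  have hnN : (n : G) ∈ normalizer ((P : Subgroup G) : Set G) := by
    rw [mem_normalizer_iff]
    intro w
    refine ⟨fun hw => ?_, fun hw => ?_⟩
    · have := (mem_normalizer_iff.mp hn ⟨w, hPC hw⟩).mp (mem_subgroupOf.mpr hw)
      simpa [PC, mem_subgroupOf] using this
    · have hwC : w ∈ C := by
        have h1 : w = (n : G)⁻¹ * ((n : G) * w * (n : G)⁻¹) * n := by group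
        rw [h1]
        exact mul_mem (mul_mem (inv_mem n.2) (hPC hw)) n.2
      have := (mem_normalizer_iff.mp hn ⟨w, hwC⟩).mpr (mem_subgroupOf.mpr hw)
      simpa [PC, mem_subgroupOf] using this
  obtain ⟨r, hr⟩ := T.exists_scalar hnN
  have hri : r * i = i := T.inj (by
    rw [← hr, mul_inv_eq_iff_eq_mul]
    exact mem_centralizer_singleton_iff.mp n.2)
  have hr1 := T.scalar_eq_one hnN hr (fun h => hu1 (T.eq_one_iff.mpr h)) hri
  rw [mem_centralizer_iff]
  intro w hw
  obtain ⟨j, hj⟩ := (T.mem_iff (w : G)).mp hw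
  have h2 := hr j
  rw [hr1, one_mul, mul_inv_eq_iff_eq_mul, hj] at h2
  exact Subtype.ext h2.symm

theorem exists_mult (χ : IrrCharacter G) (k : ZMod q) :
    ∃ m : ℕ, ∑ j : ZMod q, (χ : G → ℂ) (T.pw j) * ZMod.stdAddChar (-(k * j)) = (q : ℂ) * m := by
  haveI := Fintype.ofFinite (P : Subgroup G)
  let ev : ZMod q ≃ (P : Subgroup G) := Equiv.ofBijective (fun i => ⟨T.pw i, T.mem i⟩)
    ⟨fun i j h => T.inj (congrArg Subtype.val h), fun w => by
      obtain ⟨i, hi⟩ := (T.mem_iff w).mp w.2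
      exact ⟨i, Subtype.ext hi⟩⟩
  let lam : (P : Subgroup G) →* ℂ :=
    { toFun := fun w => ZMod.stdAddChar (k * ev.symm w)
      map_one' := by
        have : ev.symm 1 = 0 := ev.symm_apply_eq.mpr (Subtype.ext T.map_zero.symm)
        simp [this]
      map_mul' := fun a b => by
        have : ev.symm (a * b) = ev.symm a + ev.symm b := ev.symm_apply_eq.mpr (Subtype.ext (by
          conv_lhs => rw [← ev.apply_symm_apply a, ← ev.apply_symm_apply b]
          exact (T.map_add _ _).symm))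
        rw [this, mul_add, AddChar.map_add_eq_mul] }
  have hl : IsCharacter (P : Subgroup G) (fun w => lam w) :=
    Chars.isCharacter_of_isIrrCharacter (Chars.isIrrCharacter_of_hom lam.toHomUnits)
  obtain ⟨m, hm⟩ := Chars.isCharacter_classInner_nat
    (Chars.isCharacter_restrict (P : Subgroup G) (Chars.irr_isCharacter χ)) hl
  refine ⟨m, ?_⟩
  rw [← hm, classInner, T.card_eq, mul_inv_cancel_left₀ (NeZero.ne' _).symm, ← ev.sum_comp]
  refine sum_congr rfl fun j _ => ?_
  simp only [lam, MonoidHom.coe_mk, OneHom.coe_mk, Equiv.symm_apply_apply]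
  rw [AddChar.map_neg_eq_inv, Complex.inv_def]
  have hn : Complex.normSq (ZMod.stdAddChar (k * j)) = 1 := by
    rw [Complex.normSq_eq_norm_sq, AddChar.norm_apply, one_pow]
  rw [hn]
  simp [ev]
  left; rfl

end Param

end Cfsg.Agent.Lib.PairPSolv
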