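import Mathlib
import Cfsg.Agent.Lib.PairPSolv.Fusion
import Cfsg.Agent.Lib.PairPSolv.Section
import Cfsg.Agent.Lib.PairPSolv.Coherent
import Cfsg.Agent.Lib.Blocks.LocalRing

/-!
# The values of principal-block characters on a cyclic Sylow subgroup
-/

set_option autoImplicit false
set_option linter.unusedSectionVars false

namespace Cfsg.Agent.Lib.PairPSolv

open Cfsg Subgroup Finset
open Cfsg.Agent.Lib
open scoped ComplexConjugate Classical

universe u

variable {G : Type u} [Group G] [Fintype G] {p : ℕ} [hp : Fact p.Prime]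
  {P : Sylow p G} {q : ℕ} [NeZero q] (T : Param P q)

namespace Param

/-- The multiplicity of the k-th linear character minus that of the trivial one. -/
noncomputable def vec (χ : IrrCharacter G) (k : ZMod q) : ℤ :=
  ((T.exists_mult χ k).choose : ℤ) - ((T.exists_mult χ 0).choose : ℤ)

theorem vec_spec (χ : IrrCharacter G) (k : ZMod q) :
    (q : ℂ) * (T.vec χ k : ℂ) =
      ∑ j : ZMod q, (χ : G → ℂ) (T.pw j) * (ZMod.stdAddChar (-(k * j)) - 1) := by
  simp only [mul_sub, sum_sub_distrib, mul_one]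
  have h0 : ∑ j : ZMod q, (χ : G → ℂ) (T.pw j) = (q : ℂ) * ((T.exists_mult χ 0).choose : ℕ) := by
    rw [← (T.exists_mult χ 0).choose_spec]
    exact sum_congr rfl fun j _ => by simp
  rw [(T.exists_mult χ k).choose_spec, h0, vec]
  push_cast
  ring

include T in
theorem q_ne_zero : (q : ℂ) ≠ 0 := Nat.cast_ne_zero.mpr (NeZero.ne q)

theorem vec_zero (χ : IrrCharacter G) : T.vec χ 0 = 0 := by simp [vec]

include T in
theorem sum_char (b : ZMod q) :
    ∑ j : ZMod q, ZMod.stdAddChar (j * b) = if b = 0 then (q : ℂ) else 0 := by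
  rw [AddChar.sum_mulShift b (ZMod.isPrimitive_stdAddChar q), ZMod.card]
  push_cast
  rfl

theorem apply_eq_sum_vec (χ : IrrCharacter G) {j : ZMod q} (hj : j ≠ 0) :
    (χ : G → ℂ) (T.pw j) = ∑ k : ZMod q, (T.vec χ k : ℂ) * ZMod.stdAddChar (k * j) := by
  apply mul_left_cancel₀ (T.q_ne_zero)
  rw [mul_sum]
  simp only [← mul_assoc, T.vec_spec, sum_mul]
  rw [sum_comm]
  have h : ∀ i : ZMod q, ∑ k : ZMod q, (χ : G → ℂ) (T.pw i) * (ZMod.stdAddChar (-(k * i)) - 1) *
      ZMod.stdAddChar (k * j) = (χ : G → ℂ) (T.pw i) * (if j - i = 0 then (q : ℂ) else 0) := by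
    intro i
    simp only [mul_assoc, ← mul_sum]
    congr 1
    simp only [sub_mul, one_mul, sum_sub_distrib, T.sum_char, if_neg hj, sub_zero]
    rw [← T.sum_char (j - i)]
    refine sum_congr rfl fun k _ => ?_
    rw [← AddChar.map_add_eq_mul]
    congr 1
    ring
  rw [sum_congr rfl fun i _ => h i, sum_eq_single j]
  · rw [if_pos (sub_self j), mul_comm]
  · exact fun i _ hi => by rw [if_neg fun h => hi (sub_eq_zero.mp h).symm, mul_zero]
  · exact fun h => absurd (mem_univ j) h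

/-- Two indices are related when fusion carries one to the other. -/
def Rel (k l : ZMod q) : Prop := ∃ r ∈ T.fus, k = r * l

theorem rel_equivalence : Equivalence T.Rel where
  refl k := ⟨1, T.one_mem_fus, (one_mul k).symm⟩
  symm := by
    rintro k l ⟨r, hr, rfl⟩
    obtain ⟨s, hs, hsr⟩ := T.exists_inv_fus hr
    exact ⟨s, hs, by rw [← mul_assoc, hsr, one_mul]⟩
  trans := by
    rintro k l m ⟨r, hr, rfl⟩ ⟨s, hs, rfl⟩
    exact ⟨r * s, T.mul_mem_fus hr hs, (mul_assoc r s m).symm⟩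

variable (hP : IsMulCommutative (P : Subgroup G))
  (hC : ∀ u ∈ (P : Subgroup G), u ≠ 1 → HasNormalPComplement p (centralizer ({u} : Set G)))
  {M : Ideal AlgInt} [M.IsPrime] (hM : IsPModular p M)

include hP hC hM

theorem gram_pw {i j : ZMod q} (hi : i ≠ 0) (hj : j ≠ 0) :
    ∑ χ ∈ (principalBlock M G).toFinset, (χ : G → ℂ) (T.pw i) * conj ((χ : G → ℂ) (T.pw j)) =
      ∑ r ∈ T.fus, if j = r * i then (q : ℂ) else 0 := by
  rw [gram P hP hC hM (T.mem i) (fun h => hi (T.eq_one_iff.mp h)) (T.mem j)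
    (fun h => hj (T.eq_one_iff.mp h)), T.card_eq]
  by_cases h : IsConj (T.pw i) (T.pw j)
  · obtain ⟨r, hr, hrj⟩ := T.exists_fus_of_conj h
    rw [if_pos h, sum_eq_single r]
    · rw [if_pos hrj.symm]
    · intro s hs hne
      exact if_neg fun h' => hne (T.fus_inj hs hr hi (h'.symm.trans hrj.symm))
    · exact fun h' => absurd hr h'
  · rw [if_neg h, sum_eq_zero]
    intro r hr
    exact if_neg fun h' => h (by rw [h']; exact T.conj_fus hr i)

theorem vec_gram {k l : ZMod q} (hk : k ≠ 0) (hl : l ≠ 0) :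
    ∑ χ ∈ (principalBlock M G).toFinset, T.vec χ k * T.vec χ l =
      (#T.fus : ℤ) + if T.Rel k l then 1 else 0 := by
  set A := fun j : ZMod q => (ZMod.stdAddChar (-(k * j)) : ℂ) - 1 with hA
  set B' := fun j : ZMod q => (ZMod.stdAddChar (l * j) : ℂ) - 1 with hB'
  have hA0 : A 0 = 0 := by simp [hA]
  have hB0 : B' 0 = 0 := by simp [hB']
  have hconj : ∀ χ : IrrCharacter G, (q : ℂ) * (T.vec χ l : ℂ) =
      ∑ j : ZMod q, conj ((χ : G → ℂ) (T.pw j)) * B' j := by
    intro χ
    have h := congrArg conj (T.vec_spec χ l)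
    rw [_root_.map_mul, map_natCast, map_intCast, map_sum] at h
    rw [h]
    refine sum_congr rfl fun j _ => ?_
    rw [_root_.map_mul, map_sub, _root_.map_one]
    rw [hB']
    dsimp only
    rw [← AddChar.map_neg_eq_conj, neg_neg]
  have hmain : (q : ℂ) * q * (∑ χ ∈ (principalBlock M G).toFinset,
      (T.vec χ k : ℂ) * (T.vec χ l : ℂ)) =
        (q : ℂ) * q * ((#T.fus : ℂ) + if T.Rel k l then 1 else 0) := by
    calc _ = ∑ χ ∈ (principalBlock M G).toFinset, ((q : ℂ) * (T.vec χ k : ℂ)) *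
          ((q : ℂ) * (T.vec χ l : ℂ)) := by
          rw [mul_sum]; exact sum_congr rfl fun χ _ => by ring
      _ = ∑ i : ZMod q, ∑ j : ZMod q, A i * B' j * ∑ χ ∈ (principalBlock M G).toFinset,
            (χ : G → ℂ) (T.pw i) * conj ((χ : G → ℂ) (T.pw j)) := by
          simp only [T.vec_spec _ k, hconj, sum_mul_sum]
          rw [sum_comm]
          refine sum_congr rfl fun i _ => ?_
          rw [sum_comm]
          refine sum_congr rfl fun j _ => ?_
          rw [mul_sum]
          refine sum_congr rfl fun χ _ => ?_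
          simp only [hA]
          ring
      _ = ∑ i : ZMod q, ∑ j : ZMod q, A i * B' j * ∑ r ∈ T.fus,
            (if j = r * i then (q : ℂ) else 0) := by
          refine sum_congr rfl fun i _ => sum_congr rfl fun j _ => ?_
          by_cases hi : i = 0
          · rw [hi, hA0]; simp
          by_cases hj : j = 0
          · rw [hj, hB0]; simp
          rw [T.gram_pw hP hC hM hi hj]
      _ = ∑ r ∈ T.fus, (q : ℂ) * ∑ i : ZMod q, A i * B' (r * i) := by
          simp only [mul_sum, mul_ite, mul_zero]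
          refine Eq.trans (sum_congr rfl fun i _ => sum_comm) ?_
          rw [sum_comm]
          refine sum_congr rfl fun r _ => sum_congr rfl fun i _ => ?_
          rw [sum_ite_eq' univ (r * i), if_pos (mem_univ _)]
          ring
      _ = ∑ r ∈ T.fus, (q : ℂ) * ((if l * r - k = 0 then (q : ℂ) else 0) + q) := by
          refine sum_congr rfl fun r hr => ?_
          congr 1
          have h1 : ∀ i : ZMod q, A i * B' (r * i) =
              ZMod.stdAddChar (i * (l * r - k)) - ZMod.stdAddChar (i * (-k)) -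
                ZMod.stdAddChar (i * (l * r)) + 1 := by
            intro i
            simp only [hA, hB']
            rw [sub_mul, mul_sub, ← AddChar.map_add_eq_mul]
            ring_nf
          rw [sum_congr rfl fun i _ => h1 i, sum_add_distrib, sum_sub_distrib, sum_sub_distrib,
            T.sum_char, T.sum_char, T.sum_char, if_neg (neg_ne_zero.mpr hk),
            if_neg (show l * r ≠ 0 by rw [mul_comm]; exact T.fus_mul_ne_zero hr hl)]
          simp
      _ = _ := by
          rw [← mul_sum, sum_add_distrib, sum_const, nsmul_eq_mul]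
          have h2 : (∑ r ∈ T.fus, if l * r - k = 0 then (q : ℂ) else 0) =
              q * if T.Rel k l then 1 else 0 := by
            by_cases h : T.Rel k l
            · obtain ⟨r, hr, hrk⟩ := h
              rw [if_pos ⟨r, hr, hrk⟩, mul_one, sum_eq_single r]
              · rw [if_pos (by rw [hrk, mul_comm, sub_self])]
              · intro s hs hne
                exact if_neg fun h' => hne (T.fus_inj hs hr hl
                  (by rw [mul_comm s, sub_eq_zero.mp h', hrk]))
              · exact fun h' => absurd hr h'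
            · rw [if_neg h, mul_zero]
              exact sum_eq_zero fun r hr => if_neg fun h' =>
                h ⟨r, hr, by rw [← sub_eq_zero.mp h', mul_comm]⟩
          rw [h2]
          ring
  have h := mul_left_cancel₀ (mul_ne_zero T.q_ne_zero T.q_ne_zero) hmain
  by_cases hr : T.Rel k l
  · rw [if_pos hr] at h ⊢; exact_mod_cast h
  · rw [if_neg hr] at h ⊢; exact_mod_cast h

theorem vec_weight (k : ZMod q) :
    ∑ χ ∈ (principalBlock M G).toFinset, (χ : G → ℂ) 1 * (T.vec χ k : ℂ) = 0 := by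
  apply mul_left_cancel₀ T.q_ne_zero
  rw [mul_zero, mul_sum]
  simp only [mul_left_comm (q : ℂ), T.vec_spec, mul_sum]
  rw [sum_comm]
  refine sum_eq_zero fun j _ => ?_
  by_cases hj : j = 0
  · simp [hj]
  simp only [← mul_assoc]
  rw [← sum_mul, sum_degree_mul P hP hC hM (T.mem j) fun h => hj (T.eq_one_iff.mp h), zero_mul]

/-- The value pattern of the principal block on P. -/
structure Pattern (B : Finset (IrrCharacter G)) where
  img : Finset (IrrCharacter G)
  fib : IrrCharacter G → Finset (ZMod q)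
  b : IrrCharacter G → ℤ
  eps : ℤ
  eps_eq : eps = 1 ∨ eps = -1
  img_sub : img ⊆ B
  apply_eq : ∀ χ ∈ B, ∀ j : ZMod q, j ≠ 0 →
    (χ : G → ℂ) (T.pw j) = (b χ : ℂ) + (eps : ℂ) * ∑ k ∈ fib χ, ZMod.stdAddChar (k * j)
  fib_empty : ∀ χ, χ ∉ img → fib χ = ∅
  fib_card : ∀ χ ∈ img, #(fib χ) = #T.fus
  cover : img.biUnion fib = univ.erase 0
  disj : (img : Set (IrrCharacter G)).PairwiseDisjoint fib
  fib_fus : ∀ χ, ∀ k ∈ fib χ, ∀ r ∈ T.fus, r * k ∈ fib χ
  deg_eq : ∀ χ ∈ img, ∀ ψ ∈ img, (χ : G → ℂ) 1 = (ψ : G → ℂ) 1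
  diag : ∀ χ ∈ img, ∑ ζ ∈ B, b ζ * b ζ - 2 * eps * b χ = #T.fus
  triv : ∀ χ ∈ B, (χ : G → ℂ) = (fun _ => 1) → χ ∉ img ∧ b χ = 1

theorem exists_pattern (hne : ∃ k : ZMod q, k ≠ 0 ∧ ¬ T.Rel k 1) (h1 : (1 : ZMod q) ≠ 0) :
    Nonempty (T.Pattern (principalBlock M G).toFinset) := by
  set B := (principalBlock M G).toFinset with hB
  let L := {k : ZMod q // k ≠ 0}
  let v : L → B → ℤ := fun k χ => T.vec χ.1 k.1
  let r : L → L → Prop := fun k l => T.Rel k.1 l.1
  have hr : Equivalence r := ⟨fun k => T.rel_equivalence.refl k.1, fun h => T.rel_equivalence.symm h,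
    fun h h' => T.rel_equivalence.trans h h'⟩
  have hdeg : ∀ χ : IrrCharacter G, ∃ d : ℕ, 0 < d ∧ (χ : G → ℂ) 1 = d :=
    fun χ => Chars.isIrrCharacter_exists_degree_pos χ.2
  choose d hd0 hd using hdeg
  have hgram : ∀ k l : L, ∑ χ : B, v k χ * v l χ = (#T.fus : ℤ) + if r k l then 1 else 0 := by
    intro k l
    rw [sum_coe_sort B (fun χ => T.vec χ k.1 * T.vec χ l.1), T.vec_gram hP hC hM k.2 l.2]
  have hwt : ∀ k : L, ∑ χ : B, (d χ.1 : ℤ) * v k χ = 0 := by
    intro k
    rw [sum_coe_sort B (fun χ => (d χ : ℤ) * T.vec χ k.1)]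
    have h := T.vec_weight hP hC hM k.1
    rw [sum_congr rfl fun χ _ => by rw [hd χ]] at h
    exact_mod_cast h
  obtain ⟨k₀, hk₀, hk₀1⟩ := hne
  obtain ⟨f, ε, c, hε, hv, hf, hdf, hdiag⟩ := coherent v r hr _ hgram (fun χ => (d χ.1 : ℤ))
    (fun χ => by exact_mod_cast hd0 χ.1) hwt ⟨⟨k₀, hk₀⟩, ⟨1, h1⟩, hk₀1⟩
  let fib : IrrCharacter G → Finset (ZMod q) := fun χ =>
    univ.filter fun k => ∃ hk : k ≠ 0, (f ⟨k, hk⟩).1 = χ
  let img : Finset (IrrCharacter G) := univ.image fun k : L => (f k).1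
  let b : IrrCharacter G → ℤ := fun χ => if h : χ ∈ B then - c ⟨χ, h⟩ else 0
  have hfib : ∀ χ k, k ∈ fib χ ↔ ∃ hk : k ≠ 0, (f ⟨k, hk⟩).1 = χ := by simp [fib]
  have hneg : ∀ j : ZMod q, j ≠ 0 →
      ∑ k ∈ (univ : Finset (ZMod q)).erase 0, ZMod.stdAddChar (k * j) = (-1 : ℂ) := by
    intro j hj
    rw [sum_erase_eq_sub (mem_univ _), T.sum_char, if_neg hj, zero_mul, AddChar.map_zero_eq_one,
      zero_sub]
  refine ⟨⟨img, fib, b, ε, hε, ?_, ?_, ?_, ?_, ?_, ?_, ?_, ?_, ?_, ?_⟩⟩
  · intro χ hχ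
    obtain ⟨k, -, rfl⟩ := mem_image.mp hχ
    exact (f k).2
  · intro χ hχ j hj
    rw [T.apply_eq_sum_vec χ hj, ← add_sum_erase univ _ (mem_univ (0 : ZMod q)), T.vec_zero,
      Int.cast_zero, zero_mul, zero_add]
    have hterm : ∀ k ∈ (univ : Finset (ZMod q)).erase 0,
        (T.vec χ k : ℂ) * ZMod.stdAddChar (k * j) = (c ⟨χ, hχ⟩ : ℂ) * ZMod.stdAddChar (k * j) +
          (ε : ℂ) * (if k ∈ fib χ then ZMod.stdAddChar (k * j) else 0) := by
      intro k hk
      have hk' := (mem_erase.mp hk).1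
      have h := hv ⟨k, hk'⟩ ⟨χ, hχ⟩
      simp only [v] at h
      rw [h]
      by_cases hkf : k ∈ fib χ
      · obtain ⟨_, hkf'⟩ := (hfib χ k).mp hkf
        rw [if_pos hkf, unitVec, if_pos (Subtype.ext hkf'.symm)]
        push_cast; ring
      · rw [if_neg hkf, unitVec, if_neg fun h' => hkf ((hfib χ k).mpr
          ⟨hk', (congrArg Subtype.val h').symm⟩)]
        push_cast; ring
    rw [sum_congr rfl hterm, sum_add_distrib, ← mul_sum, hneg j hj, ← mul_sum, ← sum_filter]
    congr 1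
    · simp [b, hχ]
    · congr 1
      refine sum_congr ?_ fun _ _ => rfl
      ext k
      simp only [mem_filter, mem_erase, mem_univ, and_true]
      exact ⟨fun h => h.2, fun h => ⟨((hfib χ k).mp h).1, h⟩⟩
  · intro χ hχ
    refine eq_empty_iff_forall_notMem.mpr fun k hk => hχ ?_
    obtain ⟨hk', h⟩ := (hfib χ k).mp hk
    exact mem_image.mpr ⟨⟨k, hk'⟩, mem_univ _, h⟩
  · intro χ hχ
    obtain ⟨l, -, rfl⟩ := mem_image.mp hχ
    refine (card_bij (fun s _ => s * l.1) ?_ (fun s hs t ht h => T.fus_inj hs ht l.2 h) ?_).symm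
    · intro s hs
      refine (hfib _ _).mpr ⟨T.fus_mul_ne_zero hs l.2, congrArg Subtype.val ((hf _ _).mpr ?_)⟩
      exact ⟨s, hs, rfl⟩
    · intro k hk
      obtain ⟨hk', h⟩ := (hfib _ _).mp hk
      obtain ⟨s, hs, hsk⟩ := (hf _ _).mp (Subtype.ext h)
      exact ⟨s, hs, hsk.symm⟩
  · ext k
    simp only [mem_biUnion, mem_erase, mem_univ, and_true]
    exact ⟨fun ⟨χ, _, h⟩ => ((hfib χ k).mp h).1, fun hk =>
      ⟨_, mem_image.mpr ⟨⟨k, hk⟩, mem_univ _, rfl⟩, (hfib _ _).mpr ⟨hk, rfl⟩⟩⟩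
  · intro χ _ ψ _ hne'
    exact disjoint_left.mpr fun k hk hk' => hne'
      (((hfib χ k).mp hk).2.symm.trans ((hfib ψ k).mp hk').2)
  · intro χ k hk s hs
    obtain ⟨hk', h⟩ := (hfib χ k).mp hk
    refine (hfib χ _).mpr ⟨T.fus_mul_ne_zero hs hk', ?_⟩
    rw [← h]
    exact congrArg Subtype.val ((hf _ _).mpr ⟨s, hs, rfl⟩)
  · intro χ hχ ψ hψ
    obtain ⟨k, -, rfl⟩ := mem_image.mp hχ
    obtain ⟨l, -, rfl⟩ := mem_image.mp hψ
    rw [hd, hd]
    have := hdf k l
    exact_mod_cast this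
  · intro χ hχ
    obtain ⟨k, -, rfl⟩ := mem_image.mp hχ
    rw [← sum_coe_sort B, ← hdiag k]
    simp only [b, Subtype.coe_eta, dif_pos (Finset.coe_mem _)]
    simp only [neg_mul_neg]
    ring
  · intro χ hχ htriv
    have hm1 : ∀ k : L, v k ⟨χ, hχ⟩ = -1 := by
      intro k
      have h := T.vec_spec χ k.1
      simp only [htriv, one_mul, sum_sub_distrib, sum_const, card_univ, ZMod.card, nsmul_eq_mul,
        mul_one] at h
      rw [show (∑ j : ZMod q, (ZMod.stdAddChar (-(k.1 * j)) : ℂ)) = 0 by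
        have := T.sum_char (-k.1)
        rw [if_neg (neg_ne_zero.mpr k.2)] at this
        rw [← this]
        exact sum_congr rfl fun j _ => by congr 1; ring] at h
      have : (T.vec χ k.1 : ℂ) = ((-1 : ℤ) : ℂ) := by
        apply mul_left_cancel₀ T.q_ne_zero
        push_cast; rw [h]; ring
      exact_mod_cast this
    have hnot : χ ∉ img := by
      intro himg
      obtain ⟨k, -, hk⟩ := mem_image.mp himg
      obtain ⟨l, hl⟩ : ∃ l : L, ¬ r k l := by
        by_contra hcon
        push Not at hcon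
        exact hk₀1 (T.rel_equivalence.trans (T.rel_equivalence.symm (hcon ⟨k₀, hk₀⟩))
          (hcon ⟨1, h1⟩))
      have e1 := hm1 k
      have e2 := hm1 l
      rw [hv, unitVec, if_pos (Subtype.ext hk.symm)] at e1
      rw [hv, unitVec, if_neg fun h' => hl ((hf _ _).mp (Subtype.ext (hk.trans
        (congrArg Subtype.val h'))))] at e2
      rcases hε with rfl | rfl <;> omega
    refine ⟨hnot, ?_⟩
    have e1 := hm1 ⟨1, h1⟩
    rw [hv, unitVec, if_neg fun h' => hnot (mem_image.mpr ⟨⟨1, h1⟩, mem_univ _,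
      (congrArg Subtype.val h').symm⟩)] at e1
    simp only [b, dif_pos hχ]
    omega

end Param

end Cfsg.Agent.Lib.PairPSolv
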