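import Mathlib
import Cfsg.Agent.Lib.PairPSolv.Values
import Cfsg.Agent.Lib.PairPSolv.OneClass

/-!
# Simple groups with cyclic Sylow subgroups: some pair of elements of order p is not p-solvable
-/

set_option autoImplicit false
set_option linter.unusedSectionVars false

namespace Cfsg.Agent.Lib.PairPSolv

open Cfsg Subgroup Finset
open Cfsg.Agent.Lib
open scoped ComplexConjugate Classical

universe u

variable {G : Type u} [Group G] [Fintype G] {p : ℕ} [hp : Fact p.Prime]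
  {P : Sylow p G} {q : ℕ} [NeZero q] (T : Param P q)

namespace Param

theorem card_fus_le (hqp : p ∣ q) : #T.fus + 1 ≤ p := by
  have hp1 : (1 : ℕ) < p := hp.out.one_lt
  obtain ⟨c, hc⟩ := hqp
  have hc0 : (c : ZMod q) ≠ 0 := by
    rw [Ne, ZMod.natCast_eq_zero_iff]
    intro hd
    have hq0 := NeZero.ne q
    have hcpos : 0 < c := Nat.pos_of_ne_zero (by rintro rfl; simp at hc; exact hq0 hc)
    have := Nat.le_of_dvd hcpos hd
    nlinarith
  have hpc : ∀ r : ZMod q, ((r.val : ℕ) : ZMod p) = 0 → r * (c : ZMod q) = 0 := by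
    intro r hr
    rw [ZMod.natCast_eq_zero_iff] at hr
    obtain ⟨m, hm⟩ := hr
    rw [← ZMod.natCast_zmod_val r, ← Nat.cast_mul, ZMod.natCast_eq_zero_iff, hm, hc]
    exact ⟨m, by ring⟩
  have hmap : Set.InjOn (fun r : ZMod q => ((r.val : ℕ) : ZMod p)) T.fus := by
    intro r hr s hs h
    refine T.fus_inj hr hs hc0 (sub_eq_zero.mp ?_)
    rw [← sub_mul]
    apply hpc
    have hdvd : p ∣ q := ⟨c, hc⟩
    have h1 : ∀ z : ZMod q, ((z.val : ℕ) : ZMod p) = ZMod.castHom hdvd (ZMod p) z :=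
      fun z => by rw [ZMod.castHom_apply, ZMod.cast_eq_val]
    simp only [h1] at h ⊢
    rw [map_sub, h, sub_self]
  have h0 : ∀ r ∈ T.fus, ((r.val : ℕ) : ZMod p) ≠ 0 := fun r hr h =>
    T.fus_mul_ne_zero hr hc0 (hpc r h)
  have h := card_le_card_of_injOn (fun r : ZMod q => ((r.val : ℕ) : ZMod p))
    (t := univ.erase (0 : ZMod p)) (fun r hr => mem_erase.mpr ⟨h0 r hr, mem_univ _⟩) hmap
  rw [card_erase_of_mem (mem_univ _), card_univ, ZMod.card] at h
  omega

include T in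
theorem two_le_card_fus [IsSimpleGroup G] (hna : ¬ IsMulCommutative G)
    (hP1 : (P : Subgroup G) ≠ ⊥) : 2 ≤ #T.fus := by
  by_contra hlt
  have hle : #T.fus ≤ 1 := by omega
  have hnc : normalizer ((P : Subgroup G) : Set G) ≤ centralizer ((P : Subgroup G) : Set G) := by
    intro n hn
    obtain ⟨r, hr⟩ := T.exists_scalar hn
    have hr1 : r = 1 := card_le_one.mp hle r
      (T.mem_fus.mpr (isConj_iff.mpr ⟨n, by rw [hr 1, mul_one]⟩)) 1 T.one_mem_fus
    rw [mem_centralizer_iff]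
    intro w hw
    obtain ⟨j, rfl⟩ := (T.mem_iff w).mp hw
    have h2 := hr j
    rw [hr1, one_mul, mul_inv_eq_iff_eq_mul] at h2
    exact h2.symm
  have hc := MonoidHom.ker_transferSylow_isComplement' P hnc
  rcases IsSimpleGroup.eq_bot_or_eq_top_of_normal _
    (MonoidHom.normal_ker (MonoidHom.transferSylow P hnc)) with h | h
  · rw [h] at hc
    have hPtop : (P : Subgroup G) = ⊤ := isComplement'_bot_left.mp hc
    refine hna ⟨⟨fun a b => ?_⟩⟩
    obtain ⟨i, rfl⟩ := (T.mem_iff a).mp (hPtop ▸ Subgroup.mem_top a)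
    obtain ⟨j, rfl⟩ := (T.mem_iff b).mp (hPtop ▸ Subgroup.mem_top b)
    rw [← T.map_add, ← T.map_add, add_comm]
  · rw [h] at hc
    exact hP1 (isComplement'_top_left.mp hc)

theorem q_mul_mult (χ : IrrCharacter G) :
    ∃ m : ℕ, ∑ j : ZMod q, (χ : G → ℂ) (T.pw j) = (q : ℂ) * m := by
  obtain ⟨m, hm⟩ := T.exists_mult χ 0
  exact ⟨m, by rw [← hm]; exact sum_congr rfl fun j _ => by simp⟩

variable {B : Finset (IrrCharacter G)} (D : T.Pattern B)

theorem pattern_sum {χ : IrrCharacter G} (hχ : χ ∈ B) (J : Finset (ZMod q)) (hJ : ∀ j ∈ J, j ≠ 0) :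
    ∑ j ∈ J, (χ : G → ℂ) (T.pw j) =
      (#J : ℂ) * (D.b χ : ℂ) + (D.eps : ℂ) * ∑ k ∈ D.fib χ, ∑ j ∈ J, ZMod.stdAddChar (k * j) := by
  rw [sum_congr rfl fun j hj => D.apply_eq χ hχ j (hJ j hj), sum_add_distrib, sum_const,
    nsmul_eq_mul, ← mul_sum, sum_comm]

theorem fib_ne_zero (χ : IrrCharacter G) {k : ZMod q} (hk : k ∈ D.fib χ) : k ≠ 0 := by
  by_cases h : χ ∈ D.img
  · have : k ∈ D.img.biUnion D.fib := mem_biUnion.mpr ⟨χ, h, hk⟩
    rw [D.cover] at this
    exact (mem_erase.mp this).1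
  · rw [D.fib_empty χ h] at hk; exact absurd hk (notMem_empty _)

include T in
theorem sum_nonzero {k : ZMod q} (hk : k ≠ 0) :
    ∑ j ∈ (univ : Finset (ZMod q)).erase 0, ZMod.stdAddChar (k * j) = (-1 : ℂ) := by
  rw [sum_erase_eq_sub (mem_univ _), mul_zero, AddChar.map_zero_eq_one,
    sum_congr rfl fun j _ => by rw [mul_comm], T.sum_char, if_neg hk, zero_sub]

theorem pattern_total {χ : IrrCharacter G} (hχ : χ ∈ B) :
    ∑ j ∈ (univ : Finset (ZMod q)).erase 0, (χ : G → ℂ) (T.pw j) =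
      ((((q : ℤ) - 1) * D.b χ - D.eps * (#(D.fib χ) : ℤ) : ℤ) : ℂ) := by
  rw [T.pattern_sum D hχ _ (fun j hj => (mem_erase.mp hj).1),
    sum_congr rfl fun k hk => T.sum_nonzero (T.fib_ne_zero D χ hk), card_erase_of_mem (mem_univ _),
    card_univ, ZMod.card, sum_const, nsmul_eq_mul, Nat.cast_sub (NeZero.one_le (n := q))]
  push_cast
  ring

theorem card_img_mul : #D.img * #T.fus = q - 1 := by
  have h := card_biUnion D.disj
  rw [D.cover, card_erase_of_mem (mem_univ _), card_univ, ZMod.card,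
    sum_congr rfl D.fib_card, sum_const, smul_eq_mul] at h
  exact h.symm

theorem one_mem_B {M : Ideal AlgInt} [M.IsPrime] :
    ∃ one : IrrCharacter G, one ∈ (principalBlock M G).toFinset ∧ (one : G → ℂ) = fun _ => 1 := by
  refine ⟨⟨_, Chars.isIrrCharacter_one⟩, ?_, rfl⟩
  rw [Set.mem_toFinset]
  show SameBlock M _ _
  exact fun k => by rw [sub_self]; exact Blocks.memLocalIdeal_zero

end Param

variable (P) in
theorem pw_image_nonidentity :
    ((univ.filter (· ∈ (P : Subgroup G))).erase 1) =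
      ((univ : Finset (ZMod q)).erase 0).image T.pw := by
  ext w
  simp only [mem_erase, mem_filter, mem_univ, true_and, mem_image, and_true, T.mem_iff]
  constructor
  · rintro ⟨hw, j, rfl⟩
    exact ⟨j, fun h => hw (T.eq_one_iff.mpr h), rfl⟩
  · rintro ⟨j, hj, rfl⟩
    exact ⟨fun h => hj (T.eq_one_iff.mp h), j, rfl⟩

section
variable (hP : IsMulCommutative (P : Subgroup G))
  (hC : ∀ u ∈ (P : Subgroup G), u ≠ 1 → HasNormalPComplement p (centralizer ({u} : Set G)))
include hP hC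

/-- Order p, several classes. -/
theorem false_of_two_classes [IsSimpleGroup G] (T : Param P p) (hpairs : PairsPSolvable p G)
    (he2 : 2 ≤ #T.fus) (he : #T.fus + 2 ≤ p) : False := by
  have hp5 : 4 ≤ p := by omega
  obtain ⟨M, hM⟩ := CharCount.exists_isPModular p hp.out
  haveI := Blocks.isPModular_isPrime hM
  set B := (principalBlock M G).toFinset with hB
  obtain ⟨k₀, hk₀, hk₀E⟩ : ∃ k : ZMod p, k ≠ 0 ∧ k ∉ T.fus := by
    by_contra hcon
    push Not at hcon
    have h : (univ : Finset (ZMod p)).erase 0 ⊆ T.fus := fun k hk => hcon k (mem_erase.mp hk).1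
    have := card_le_card h
    rw [card_erase_of_mem (mem_univ _), card_univ, ZMod.card] at this
    omega
  have hnotrel : ¬ T.Rel k₀ 1 := fun ⟨r, hr, h⟩ => hk₀E (by rw [h, mul_one]; exact hr)
  obtain ⟨D⟩ := T.exists_pattern hP hC hM ⟨k₀, hk₀, hnotrel⟩ one_ne_zero
  obtain ⟨one, honeB, hone⟩ := Param.one_mem_B (G := G) (M := M)
  obtain ⟨honeI, honeb⟩ := D.triv one honeB hone
  set x := T.pw 1
  set y := T.pw k₀
  have hx1 : x ≠ 1 := fun h => one_ne_zero (T.eq_one_iff.mp h)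
  have hord : ∀ j : ZMod p, j ≠ 0 → orderOf (T.pw j) = p := fun j hj => by
    refine orderOf_eq_prime ?_ fun h => hj (T.eq_one_iff.mp h)
    rw [← T.map_nsmul, nsmul_eq_mul, ZMod.natCast_self, zero_mul, T.map_zero]
  have hxy : ¬ IsConj x y := fun h => hk₀E (by
    obtain ⟨r, hr, hrk⟩ := T.exists_fus_of_conj h
    rw [← hrk, mul_one]; exact hr)
  set Q := (univ.filter (· ∈ (P : Subgroup G))).erase 1 with hQdef
  have hQimg := pw_image_nonidentity P T
  have hid := count_eq P hP hC hM (x := x) (y := y) Q #T.fus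
    (fun u hu => by simpa [hQdef, and_comm] using hu) (fun u hu => by
      rw [hQdef, hQimg] at hu
      obtain ⟨i, hi, rfl⟩ := mem_image.mp hu
      exact T.card_conj (mem_erase.mp hi).1 Q
        (fun r hr => by
          rw [hQdef, hQimg]
          exact mem_image.mpr ⟨r * i, mem_erase.mpr ⟨T.fus_mul_ne_zero hr (mem_erase.mp hi).1,
            mem_univ _⟩, rfl⟩)
        fun w hw => by simpa [hQdef] using (mem_erase.mp hw).2)
  -- every product is p-singular
  have hC' : #{k : G | PartIn p Q (x * (k * y⁻¹ * k⁻¹))} = Nat.card G := by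
    rw [filter_true_of_mem fun k _ => ?_, card_univ, Nat.card_eq_fintype_card]
    rw [hQdef, partIn_nonidentity P hP hC]
    by_contra hreg
    have hy' : orderOf (k * y * k⁻¹) = p := by
      rw [show k * y * k⁻¹ = MulAut.conj k y from rfl, MulEquiv.orderOf_eq]
      exact hord k₀ hk₀
    rw [show x * (k * y⁻¹ * k⁻¹) = x * (k * y * k⁻¹)⁻¹ by group] at hreg
    exact hxy (((pair_facts P hP (hord 1 one_ne_zero) hy'
      (hpairs x _ (hord 1 one_ne_zero) hy')).2 hreg).1.symm.trans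
        (isConj_iff.mpr ⟨k⁻¹, by group⟩))
  rw [hC', T.card_eq] at hid
  have hd : ∀ χ : IrrCharacter G, ∃ d : ℕ, 0 < d ∧ (χ : G → ℂ) 1 = d :=
    fun χ => Chars.isIrrCharacter_exists_degree_pos χ.2
  choose d hd0 hd using hd
  set A : IrrCharacter G → ℤ := fun χ =>
    ((p : ℤ) - 1) * D.b χ - D.eps * (#(D.fib χ) : ℤ) with hA
  have hQsum : ∀ χ ∈ B, ∑ u ∈ Q, (χ : G → ℂ) u = (A χ : ℂ) := fun χ hχ => by
    rw [hQdef, hQimg, sum_image fun i _ j _ h => T.inj h, T.pattern_total D hχ]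
  rw [sum_congr rfl fun χ hχ => by rw [hQsum χ hχ, hd χ, map_intCast]] at hid
  -- split into the two kinds
  set N := B \ D.img with hNdef
  set b := D.b
  have hNfib : ∀ χ ∈ N, D.fib χ = ∅ := fun χ hχ => D.fib_empty χ (mem_sdiff.mp hχ).2
  have hNval : ∀ χ ∈ N, ∀ j : ZMod p, j ≠ 0 → (χ : G → ℂ) (T.pw j) = (b χ : ℂ) := by
    intro χ hχ j hj
    rw [D.apply_eq χ (mem_sdiff.mp hχ).1 j hj, hNfib χ hχ]
    simp [b]
  obtain ⟨χe, hχe⟩ : D.img.Nonempty := by
    rw [nonempty_iff_ne_empty]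
    intro h
    have := T.card_img_mul D
    rw [h] at this
    simp at this
    omega
  have hworth : ∑ χ ∈ B, (χ : G → ℂ) x * conj ((χ : G → ℂ) y) = 0 := by
    rw [gram P hP hC hM (T.mem 1) hx1 (T.mem k₀) fun h => hk₀ (T.eq_one_iff.mp h), if_neg hxy]
  set R : ℤ := ∑ χ ∈ N, b χ * b χ with hRdef
  have himgw : ∑ χ ∈ D.img, (χ : G → ℂ) x * conj ((χ : G → ℂ) y) = -(R : ℂ) := by
    rw [← sum_sdiff D.img_sub, sum_congr rfl fun χ hχ => by
      rw [hNval χ hχ 1 one_ne_zero, hNval χ hχ k₀ hk₀, map_intCast]] at hworth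
    rw [hRdef]; push_cast
    linear_combination hworth
  have himgA : ∀ χ ∈ D.img, A χ = A χe ∧ d χ = d χe := by
    intro χ hχ
    have hbeq : b χ = b χe := by
      have h1 := D.diag χ hχ
      have h2 := D.diag χe hχe
      rcases D.eps_eq with h | h <;> rw [h] at h1 h2 <;> simp only [b] <;> linarith
    refine ⟨?_, ?_⟩
    · simp only [hA, D.fib_card χ hχ, D.fib_card χe hχe]
      simp only [b] at hbeq ⊢
      rw [hbeq]
    · have := D.deg_eq χ hχ χe hχe
      rw [hd, hd] at this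
      exact_mod_cast this
  have hNterm : ∀ χ ∈ N, (A χ : ℂ) * (χ : G → ℂ) x * conj ((χ : G → ℂ) y) / (d χ : ℂ) =
      ((((p : ℝ) - 1) * ((b χ : ℝ) ^ 3 / d χ) : ℝ) : ℂ) := by
    intro χ hχ
    rw [hNval χ hχ 1 one_ne_zero, hNval χ hχ k₀ hk₀, map_intCast]
    simp only [hA, hNfib χ hχ, card_empty, Nat.cast_zero, mul_zero, sub_zero]
    push_cast
    simp only [b]
    ring
  rw [← sum_sdiff D.img_sub, sum_congr rfl hNterm,
    sum_congr rfl (f := fun χ : IrrCharacter G =>
      (A χ : ℂ) * (χ : G → ℂ) x * conj ((χ : G → ℂ) y) / (d χ : ℂ))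
      (g := fun χ : IrrCharacter G =>
        (A χe : ℂ) / (d χe : ℂ) * ((χ : G → ℂ) x * conj ((χ : G → ℂ) y)))
      (s₁ := D.img) (fun χ hχ => by rw [(himgA χ hχ).1, (himgA χ hχ).2]; ring),
    ← mul_sum, himgw] at hid
  have hidR : ((#T.fus : ℕ) : ℝ) * (p : ℝ) * (Nat.card G : ℝ) = (Nat.card G : ℝ) *
      (∑ χ ∈ N, ((p : ℝ) - 1) * ((b χ : ℝ) ^ 3 / d χ) + (A χe : ℝ) / (d χe : ℝ) * (-(R : ℝ))) := by
    apply Complex.ofReal_injective
    push_cast at hid ⊢
    rw [← hid]
  have hG0 : (0 : ℝ) < Nat.card G := by exact_mod_cast Nat.card_pos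
  replace hidR : ((#T.fus : ℕ) : ℝ) * (p : ℝ) =
      ∑ χ ∈ N, ((p : ℝ) - 1) * ((b χ : ℝ) ^ 3 / d χ) + (A χe : ℝ) / (d χe : ℝ) * (-(R : ℝ)) :=
    mul_right_cancel₀ hG0.ne' (by rw [hidR]; ring)
  -- A ≥ -d
  have hAd : ∀ χ ∈ B, -(d χ : ℤ) ≤ A χ := by
    intro χ hχ
    obtain ⟨m, hm⟩ := T.q_mul_mult χ
    rw [← add_sum_erase _ _ (mem_univ (0 : ZMod p)), T.map_zero, hd, T.pattern_total D hχ] at hm
    have : (d χ : ℤ) + A χ = (p : ℤ) * m := by rw [hA]; exact_mod_cast hm
    have : (0 : ℤ) ≤ (p : ℤ) * m := by positivity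
    omega
  have hR0 : 1 ≤ R := by
    have honeN : one ∈ N := mem_sdiff.mpr ⟨honeB, honeI⟩
    have h := single_le_sum (f := fun χ => b χ * b χ) (fun χ _ => mul_self_nonneg _) honeN
    simp only [b, honeb] at h
    simpa [hRdef, b] using h
  have hRe : R ≤ (#T.fus : ℤ) := by
    have h := D.diag χe hχe
    rw [← sum_sdiff D.img_sub, sum_congr rfl (s₁ := D.img) fun χ hχ => by
      have hbeq : D.b χ = D.b χe := by
        have h1 := D.diag χ hχ
        have h2 := D.diag χe hχe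
        rcases D.eps_eq with h' | h' <;> rw [h'] at h1 h2 <;> linarith
      rw [hbeq], sum_const, nsmul_eq_mul] at h
    have ht2 : (2 : ℤ) ≤ #D.img := by
      have h1 := T.card_img_mul D
      by_contra hcon
      have : #D.img ≤ 1 := by omega
      interval_cases h2 : #D.img <;> omega
    have habs : (0 : ℤ) ≤ (#D.img : ℤ) * (D.b χe * D.b χe) - 2 * D.eps * D.b χe := by
      rcases eq_or_ne (D.b χe) 0 with h0 | h0
      · rw [h0]; simp
      · rcases D.eps_eq with h' | h' <;> rw [h'] <;>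
          rcases lt_or_gt_of_ne h0 with h1 | h1 <;>
            nlinarith [mul_le_mul_of_nonneg_right ht2 (mul_self_nonneg (D.b χe))]
    have : R + ((#D.img : ℤ) * (D.b χe * D.b χe) - 2 * D.eps * D.b χe) = #T.fus := by
      rw [hRdef, hNdef]; simp only [b]; linarith
    linarith
  -- bound the terms
  have hble : ∀ χ ∈ N, (b χ : ℝ) ^ 3 / d χ ≤ (b χ : ℝ) ^ 2 ∧
      (χ ≠ one → b χ ≠ 0 → (b χ : ℝ) ^ 3 / d χ < (b χ : ℝ) ^ 2) := by
    intro χ hχ
    have hdpos : (0 : ℝ) < d χ := by exact_mod_cast hd0 χ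
    have hbx := hNval χ hχ 1 one_ne_zero
    have hb : (b χ : ℝ) ≤ d χ := by
      obtain ⟨n, ρ, -, hρ⟩ := χ.2
      have h2 := Chars.norm_char_le (ρ := ρ) x
      rw [hρ, hbx, Complex.norm_intCast] at h2
      have hn : (n : ℂ) = d χ := by rw [← hd, ← hρ, Representation.char_one]; simp
      rw [Module.finrank_fin_fun, Nat.cast_inj.mp hn] at h2
      exact (le_abs_self (b χ : ℝ)).trans h2
    refine ⟨?_, fun hne hb0 => ?_⟩
    · rw [div_le_iff₀ hdpos]
      nlinarith [mul_le_mul_of_nonneg_left hb (sq_nonneg (b χ : ℝ))]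
    · rw [div_lt_iff₀ hdpos]
      have hlt : (b χ : ℝ) < d χ := by
        refine lt_of_le_of_ne hb fun h => hne (Subtype.ext ?_)
        rw [hone]
        refine BrauerSuzukiQ.eq_one_of_apply_eq χ hx1 ?_
        rw [hbx, hd]
        exact_mod_cast congrArg (fun r : ℝ => (r : ℂ)) h
      have : (b χ : ℝ) ≠ 0 := by exact_mod_cast hb0
      nlinarith [mul_lt_mul_of_pos_left hlt (show (0 : ℝ) < (b χ : ℝ) ^ 2 by positivity)]
  have hRsum : ∑ χ ∈ N, (b χ : ℝ) ^ 2 = (R : ℝ) := by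
    rw [hRdef]; push_cast
    exact sum_congr rfl fun χ _ => by ring
  have hlast : -((A χe : ℝ) / (d χe : ℝ)) ≤ 1 := by
    have hdpos : (0 : ℝ) < d χe := by exact_mod_cast hd0 χe
    rw [neg_le, le_div_iff₀ hdpos]
    have h : -(d χe : ℝ) ≤ A χe := by exact_mod_cast hAd χe (D.img_sub hχe)
    linarith
  have hp1 : (0 : ℝ) < (p : ℝ) - 1 := by
    have : (4 : ℝ) ≤ p := by exact_mod_cast hp5
    linarith
  have hRR : (1 : ℝ) ≤ R := by exact_mod_cast hR0
  have hReR : (R : ℝ) ≤ (#T.fus : ℕ) := by exact_mod_cast hRe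
  have hsum_le := sum_le_sum fun χ hχ => (hble χ hχ).1
  rw [← mul_sum] at hidR
  -- equality forces a kernel
  by_cases hex : ∃ χ ∈ N, χ ≠ one ∧ b χ ≠ 0
  · obtain ⟨χ, hχ, hχ1, hχ0⟩ := hex
    have hlt := sum_lt_sum (fun ζ hζ => (hble ζ hζ).1) ⟨χ, hχ, (hble χ hχ).2 hχ1 hχ0⟩
    rw [hRsum] at hlt
    nlinarith
  · push Not at hex
    have honeN : one ∈ N := mem_sdiff.mpr ⟨honeB, honeI⟩
    have hR1 : (R : ℝ) = 1 := by
      rw [← hRsum, sum_eq_single one (fun χ hχ hne => by simp [hex χ hχ hne])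
        (fun h => absurd honeN h)]
      simp [b, honeb]
    rw [hRsum] at hsum_le
    have he2R : (2 : ℝ) ≤ (#T.fus : ℕ) := by exact_mod_cast he2
    nlinarith

/-- Order at least p². -/
theorem false_of_large [IsSimpleGroup G] (T : Param P q) (hpairs : PairsPSolvable p G)
    {c : ℕ} (hqc : q = p * c) (hpc : p ∣ c) (he2 : 2 ≤ #T.fus) : False := by
  have hpq : p ∣ q := ⟨c, hqc⟩
  have hep := T.card_fus_le hpq
  have hc1 : p ≤ c := Nat.le_of_dvd
    (Nat.pos_of_ne_zero fun h => NeZero.ne q (by rw [hqc, h, mul_zero])) hpc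
  have hqbig : p * p ≤ q := hqc ▸ Nat.mul_le_mul_left p hc1
  have hp2 := hp.out.two_le
  obtain ⟨M, hM⟩ := CharCount.exists_isPModular p hp.out
  haveI := Blocks.isPModular_isPrime hM
  set B := (principalBlock M G).toFinset with hB
  set E := T.fus
  set j₀ : ZMod q := (c : ZMod q) with hj₀def
  have hj₀ : j₀ ≠ 0 := by
    rw [hj₀def, Ne, ZMod.natCast_eq_zero_iff]
    intro hd
    have := Nat.le_of_dvd (by omega) hd
    nlinarith
  haveI : Fact (1 < q) := ⟨by nlinarith⟩
  obtain ⟨k₁, hk₁, hk₁E⟩ : ∃ k : ZMod q, k ≠ 0 ∧ k ∉ E := by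
    by_contra hcon
    push Not at hcon
    have h : (univ : Finset (ZMod q)).erase 0 ⊆ E := fun k hk => hcon k (mem_erase.mp hk).1
    have := card_le_card h
    rw [card_erase_of_mem (mem_univ _), card_univ, ZMod.card] at this
    have : p + 1 ≤ q := by nlinarith
    omega
  obtain ⟨D⟩ := T.exists_pattern hP hC hM
    ⟨k₁, hk₁, fun ⟨r, hr, h⟩ => hk₁E (by rw [h, mul_one]; exact hr)⟩ one_ne_zero
  obtain ⟨one, honeB, hone⟩ := Param.one_mem_B (G := G) (M := M)
  obtain ⟨honeI, honeb⟩ := D.triv one honeB hone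
  set b := D.b
  -- the subgroup of order p
  set Z := (univ : Finset (ZMod q)).filter (fun j => (p : ZMod q) * j = 0) with hZ
  have hval : ∀ j : ZMod q, (p : ZMod q) * j = 0 ↔ c ∣ j.val := by
    intro j
    conv_lhs => rw [← ZMod.natCast_zmod_val j, ← Nat.cast_mul, ZMod.natCast_eq_zero_iff]
    generalize j.val = v
    rw [hqc]
    exact Nat.mul_dvd_mul_iff_left hp.out.pos
  have hZimg : Z = (range p).image (fun i : ℕ => (i : ZMod q) * j₀) := by
    ext j
    simp only [hZ, mem_filter, mem_univ, true_and, mem_image, mem_range]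
    constructor
    · intro hj
      obtain ⟨i, hi⟩ := (hval j).mp hj
      refine ⟨i, ?_, by rw [hj₀def, ← Nat.cast_mul, mul_comm, ← hi, ZMod.natCast_zmod_val]⟩
      by_contra hcon
      push Not at hcon
      have h1 := ZMod.val_lt j
      have h2 : c * p ≤ c * i := Nat.mul_le_mul_left c hcon
      rw [← hi, mul_comm c p, ← hqc] at h2
      omega
    · rintro ⟨i, -, rfl⟩
      rw [hj₀def, ← mul_assoc, mul_comm (p : ZMod q), mul_assoc, ← Nat.cast_mul, ← hqc,
        ZMod.natCast_self, mul_zero]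
  have hinj : Set.InjOn (fun i : ℕ => (i : ZMod q) * j₀) (range p : Finset ℕ) := by
    intro i hi i' hi' h
    simp only [coe_range, Set.mem_Iio] at hi hi'
    simp only [hj₀def, ← Nat.cast_mul] at h
    rw [ZMod.natCast_eq_natCast_iff] at h
    have hlt : ∀ m < p, m * c < q := fun m hm => by rw [hqc]; exact Nat.mul_lt_mul_of_pos_right hm (by omega)
    have := Nat.ModEq.eq_of_lt_of_lt h (hlt i hi) (hlt i' hi')
    exact Nat.eq_of_mul_eq_mul_right (by omega) this
  have hZcard : #Z = p := by rw [hZimg, card_image_of_injOn hinj, card_range]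
  have hZsum : ∀ k : ZMod q, ∑ j ∈ Z, (ZMod.stdAddChar (k * j) : ℂ) =
      if k * j₀ = 0 then (p : ℂ) else 0 := by
    intro k
    rw [hZimg, sum_image hinj]
    have hpow : ∀ i : ℕ, (ZMod.stdAddChar (k * ((i : ZMod q) * j₀)) : ℂ) =
        (ZMod.stdAddChar (k * j₀) : ℂ) ^ i := fun i => by
      rw [← AddChar.map_nsmul_eq_pow, nsmul_eq_mul]; ring_nf
    simp only [hpow]
    split_ifs with h
    · simp [h]
    · have hne : (ZMod.stdAddChar (k * j₀) : ℂ) ≠ 1 := fun h' => h
        (ZMod.injective_stdAddChar (h'.trans (AddChar.map_zero_eq_one _).symm))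
      rw [geom_sum_eq hne, ← AddChar.map_nsmul_eq_pow, nsmul_eq_mul,
        show (p : ZMod q) * (k * j₀) = k * ((p * c : ℕ) : ZMod q) by rw [hj₀def]; push_cast; ring,
        ← hqc, ZMod.natCast_self, mul_zero, AddChar.map_zero_eq_one, sub_self, zero_div]
  set J := (univ : Finset (ZMod q)) \ Z with hJ
  have hJ0 : ∀ j ∈ J, j ≠ 0 := fun j hj h => (mem_sdiff.mp hj).2 (by simp [hZ, h])
  have hJcard : (#J : ℂ) = (q : ℂ) - p := by
    rw [hJ, card_sdiff_of_subset (subset_univ _), card_univ, ZMod.card, hZcard,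
      Nat.cast_sub (by nlinarith)]
  -- no product has p-part of order above p
  set x := T.pw j₀
  have hxo : orderOf x = p := by
    refine orderOf_eq_prime ?_ fun h => hj₀ (T.eq_one_iff.mp h)
    rw [← T.map_nsmul, nsmul_eq_mul, hj₀def, ← Nat.cast_mul, ← hqc, ZMod.natCast_self, T.map_zero]
  set Q := J.image T.pw with hQdef
  have hid := count_eq P hP hC hM (x := x) (y := x) Q #E
    (fun u hu => by
      obtain ⟨i, hi, rfl⟩ := mem_image.mp hu
      exact ⟨T.mem i, fun h => hJ0 i hi (T.eq_one_iff.mp h)⟩)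
    (fun u hu => by
      obtain ⟨i, hi, rfl⟩ := mem_image.mp hu
      refine T.card_conj (hJ0 i hi) Q (fun r hr => mem_image.mpr ⟨r * i, ?_, rfl⟩) ?_
      · simp only [hJ, hZ, mem_sdiff, mem_univ, mem_filter, true_and] at hi ⊢
        intro h
        rw [mul_left_comm] at h
        exact hi (by_contra fun hne => T.fus_mul_ne_zero hr hne h)
      · intro w hw
        obtain ⟨j, -, rfl⟩ := mem_image.mp hw
        exact T.mem j)
  have hC' : #{k : G | PartIn p Q (x * (k * x⁻¹ * k⁻¹))} = 0 := by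
    rw [card_eq_zero, filter_eq_empty_iff]
    intro k _ hk
    obtain ⟨u, hu, hc⟩ := hk
    obtain ⟨i, hi, rfl⟩ := mem_image.mp hu
    have hy : orderOf (k * x * k⁻¹) = p := by
      rw [show k * x * k⁻¹ = MulAut.conj k x from rfl, MulEquiv.orderOf_eq]; exact hxo
    have hw := (pair_facts P hP hxo hy (hpairs x _ hxo hy)).1 _ (Blocks.isPPart_iff.mpr rfl)
    rw [show x * (k * x⁻¹ * k⁻¹) = x * (k * x * k⁻¹)⁻¹ by group] at hc
    obtain ⟨g, hg⟩ := isConj_iff.mp hc
    rw [← hg, conj_pow, conj_eq_one_iff, ← T.map_nsmul, T.eq_one_iff, nsmul_eq_mul] at hw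
    exact (mem_sdiff.mp hi).2 (by simp [hZ, hw])
  rw [hC', Nat.cast_zero, mul_zero] at hid
  replace hid := (mul_eq_zero.mp hid.symm).resolve_left Chars.natCard_ne_zero
  have hd : ∀ χ : IrrCharacter G, ∃ d : ℕ, 0 < d ∧ (χ : G → ℂ) 1 = d :=
    fun χ => Chars.isIrrCharacter_exists_degree_pos χ.2
  choose d hd0 hd using hd
  -- the values
  set n₁ : IrrCharacter G → ℕ := fun χ => #{k ∈ D.fib χ | k * j₀ = 0} with hn₁
  have hQsum : ∀ χ ∈ B, ∑ u ∈ Q, (χ : G → ℂ) u =
      ((q : ℂ) - p) * (b χ : ℂ) - (D.eps : ℂ) * ((p : ℂ) * n₁ χ) := by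
    intro χ hχ
    rw [hQdef, sum_image fun i _ j _ h => T.inj h, T.pattern_sum D hχ J hJ0, hJcard]
    have : ∀ k ∈ D.fib χ, ∑ j ∈ J, (ZMod.stdAddChar (k * j) : ℂ) =
        -(if k * j₀ = 0 then (p : ℂ) else 0) := by
      intro k hk
      have h1 : ∑ j ∈ J, (ZMod.stdAddChar (k * j) : ℂ) + ∑ j ∈ Z, (ZMod.stdAddChar (k * j) : ℂ) =
          ∑ j : ZMod q, (ZMod.stdAddChar (k * j) : ℂ) := sum_sdiff (subset_univ Z)
      rw [sum_congr rfl (s₁ := univ) fun j _ => by rw [mul_comm k j], T.sum_char,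
        if_neg (T.fib_ne_zero D χ hk), hZsum] at h1
      linear_combination h1
    rw [sum_congr rfl this, sum_neg_distrib, ← sum_filter, sum_const, nsmul_eq_mul]
    simp only [hn₁, b]
    ring
  have hb : ∀ χ ∈ D.img, ∀ ψ ∈ D.img, b χ = b ψ := by
    intro χ hχ ψ hψ
    have h1 := D.diag χ hχ
    have h2 := D.diag ψ hψ
    rcases D.eps_eq with h | h <;> rw [h] at h1 h2 <;> simp only [b] <;> linarith
  set N := B \ D.img with hNdef
  have honeN : one ∈ N := mem_sdiff.mpr ⟨honeB, honeI⟩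
  have himg : (p : ℤ) + 1 ≤ #D.img := by
    have h1 := T.card_img_mul D
    by_contra hcon
    have h2 : #D.img * #E ≤ p * (p - 1) := Nat.mul_le_mul (by omega) (by omega)
    rw [h1, Nat.mul_sub, mul_one] at h2
    have := Nat.le_mul_self p
    omega
  -- the exceptional constant vanishes
  have hsplit : ∀ χ ∈ D.img, ∑ ζ ∈ N, b ζ * b ζ +
      ((#D.img : ℤ) * (b χ * b χ) - 2 * D.eps * b χ) = #E := by
    intro χ hχ
    have h := D.diag χ hχ
    rw [← sum_sdiff D.img_sub, sum_congr rfl (s₁ := D.img) fun ζ hζ => by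
      rw [show D.b ζ = D.b χ from hb ζ hζ χ hχ], sum_const, nsmul_eq_mul] at h
    simp only [hNdef, b]
    linarith
  have hR1 : 1 ≤ ∑ ζ ∈ N, b ζ * b ζ := by
    have h := single_le_sum (f := fun ζ => b ζ * b ζ) (fun ζ _ => mul_self_nonneg _) honeN
    simp only [b, honeb] at h
    simpa [b] using h
  have hbimg : ∀ χ ∈ D.img, b χ = 0 := by
    intro χ hχ
    by_contra h0
    have h := hsplit χ hχ
    have hpZ : (2 : ℤ) ≤ p := by exact_mod_cast hp2
    have heZ : (#E : ℤ) + 1 ≤ p := by exact_mod_cast hep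
    have hlow : (p : ℤ) - 1 ≤ (#D.img : ℤ) * (b χ * b χ) - 2 * D.eps * b χ := by
      have hmul := mul_le_mul_of_nonneg_right himg (mul_self_nonneg (b χ))
      have hsq : (1 : ℤ) ≤ b χ * b χ := by
        rcases lt_or_gt_of_ne h0 with h1 | h1 <;> nlinarith
      have h3 := mul_nonneg (show (0 : ℤ) ≤ (p : ℤ) - 1 by linarith)
        (show (0 : ℤ) ≤ b χ * b χ - 1 by linarith)
      have h4 : D.eps * b χ ≤ b χ * b χ := by
        rcases lt_or_gt_of_ne h0 with h1 | h1 <;> rcases D.eps_eq with h2 | h2 <;> rw [h2] <;>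
          nlinarith
      nlinarith
    linarith
  have hRe : ∑ ζ ∈ N, b ζ * b ζ = #E := by
    obtain ⟨χ, hχ⟩ : D.img.Nonempty := card_pos.mp (by omega)
    have h := hsplit χ hχ
    rw [hbimg χ hχ] at h
    simpa using h
  -- the sign of the terms
  have hfall : ∀ χ ∈ D.img, n₁ χ = 0 ∨ (n₁ χ = #E ∧ ∀ k ∈ D.fib χ, k * j₀ = 0) := by
    intro χ hχ
    by_cases h : ∃ k ∈ D.fib χ, k * j₀ = 0
    · right
      obtain ⟨k, hk, hk0⟩ := h
      have hsub : E.image (· * k) ⊆ D.fib χ := fun z hz => by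
        obtain ⟨r, hr, rfl⟩ := mem_image.mp hz
        exact D.fib_fus χ k hk r hr
      have heq : E.image (· * k) = D.fib χ := eq_of_subset_of_card_le hsub (by
        rw [D.fib_card χ hχ, card_image_of_injOn fun r hr s hs h =>
          T.fus_inj hr hs (T.fib_ne_zero D χ hk) h])
      have hall : ∀ k' ∈ D.fib χ, k' * j₀ = 0 := fun k' hk' => by
        rw [← heq] at hk'
        obtain ⟨r, hr, rfl⟩ := mem_image.mp hk'
        rw [mul_assoc, hk0, mul_zero]
      exact ⟨by rw [hn₁]; dsimp only; rw [filter_true_of_mem hall, D.fib_card χ hχ], hall⟩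
    · left
      push Not at h
      exact card_eq_zero.mpr (filter_eq_empty_iff.mpr fun {k} hk => h k hk)
  have hdm : ∀ χ ∈ B, ∃ m : ℕ, (d χ : ℤ) + (((q : ℤ) - 1) * b χ - D.eps * (#(D.fib χ) : ℤ)) =
      (q : ℤ) * m := by
    intro χ hχ
    obtain ⟨m, hm⟩ := T.q_mul_mult χ
    rw [← add_sum_erase _ _ (mem_univ (0 : ZMod q)), T.map_zero, hd, T.pattern_total D hχ] at hm
    exact ⟨m, by simp only [b]; exact_mod_cast hm⟩
  have hqR : (p : ℝ) * p ≤ q := by exact_mod_cast hqbig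
  have hpR : (2 : ℝ) ≤ p := by exact_mod_cast hp2
  have heR : ((#E : ℕ) : ℝ) + 1 ≤ p := by exact_mod_cast hep
  have he2R : (2 : ℝ) ≤ ((#E : ℕ) : ℝ) := by exact_mod_cast he2
  have hqp : (0 : ℝ) < (q : ℝ) - p := by nlinarith
  -- real form of the terms
  let g : IrrCharacter G → ℝ := fun χ => if χ ∈ D.img then
      -((D.eps : ℝ) * ((p : ℝ) * n₁ χ)) * ((#E : ℕ) : ℝ) ^ 2 / d χ
    else ((q : ℝ) - p) * ((b χ : ℝ) ^ 3 / d χ)
  have hterm : ∀ χ ∈ B, conj (∑ u ∈ Q, (χ : G → ℂ) u) * (χ : G → ℂ) x * conj ((χ : G → ℂ) x) /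
      (χ : G → ℂ) 1 = ((g χ : ℝ) : ℂ) := by
    intro χ hχ
    rw [hQsum χ hχ, hd]
    simp only [g]
    by_cases hI : χ ∈ D.img
    · rw [if_pos hI, hbimg χ hI]
      rcases hfall χ hI with h | ⟨h, hall⟩
      · rw [h]; simp
      · have hx : (χ : G → ℂ) x = (D.eps : ℂ) * ((#E : ℕ) : ℂ) := by
          rw [D.apply_eq χ hχ j₀ hj₀, show D.b χ = b χ from rfl, hbimg χ hI,
            sum_congr rfl fun k hk => by rw [hall k hk, AddChar.map_zero_eq_one], sum_const,
            nsmul_eq_mul, mul_one, Int.cast_zero, zero_add, D.fib_card χ hI]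
        rw [hx]
        simp only [_root_.map_mul, map_sub, map_neg, map_natCast, map_intCast, Int.cast_zero, mul_zero,
          map_zero, zero_sub]
        push_cast
        rcases D.eps_eq with h' | h' <;> rw [h'] <;> push_cast <;>
          simp only [map_neg, _root_.map_mul, map_natCast, neg_mul, one_mul, neg_neg] <;> ring
    · rw [if_neg hI]
      have hfe := D.fib_empty χ hI
      have hx : (χ : G → ℂ) x = (b χ : ℂ) := by
        rw [D.apply_eq χ hχ j₀ hj₀, hfe]; simp [b]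
      rw [hx]
      simp only [hn₁, hfe, filter_empty, card_empty, Nat.cast_zero, mul_zero, sub_zero,
        _root_.map_mul, map_sub, map_natCast, map_intCast]
      push_cast
      ring
  rw [sum_congr rfl hterm, ← Complex.ofReal_sum, Complex.ofReal_eq_zero,
    ← sum_sdiff D.img_sub] at hid
  have hN : ((q : ℝ) - p) * (1 - (((#E : ℕ) : ℝ) - 1) / ((q : ℝ) - 1)) ≤ ∑ χ ∈ N, g χ := by
    have hgN : ∀ χ ∈ N, g χ = ((q : ℝ) - p) * ((b χ : ℝ) ^ 3 / d χ) := fun χ hχ =>
      if_neg (mem_sdiff.mp hχ).2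
    rw [sum_congr rfl hgN, ← mul_sum]
    refine mul_le_mul_of_nonneg_left ?_ hqp.le
    have hd1 : (d one : ℝ) = 1 := by
      have h := hd one
      rw [hone] at h
      simp only at h
      exact_mod_cast h.symm
    have hq1 : (0 : ℝ) < (q : ℝ) - 1 := by nlinarith
    have hlow : ∀ χ ∈ N.erase one, -((b χ : ℝ) ^ 2) / ((q : ℝ) - 1) ≤ (b χ : ℝ) ^ 3 / d χ := by
      intro χ hχ
      have hχN := (mem_erase.mp hχ).2
      obtain ⟨m, hm⟩ := hdm χ (mem_sdiff.mp hχN).1
      rw [D.fib_empty χ (mem_sdiff.mp hχN).2, card_empty, Nat.cast_zero, mul_zero, sub_zero] at hm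
      have hm' : (d χ : ℝ) + ((q : ℝ) - 1) * b χ = (q : ℝ) * m := by exact_mod_cast hm
      have hdpos : (0 : ℝ) < d χ := by exact_mod_cast hd0 χ
      rw [div_le_div_iff₀ hq1 hdpos]
      have : (0 : ℝ) ≤ (q : ℝ) * m := by positivity
      nlinarith [sq_nonneg (b χ : ℝ),
        mul_nonneg (sq_nonneg (b χ : ℝ)) (show (0 : ℝ) ≤ d χ + ((q : ℝ) - 1) * b χ by linarith)]
    rw [← add_sum_erase _ _ honeN, show (b one : ℝ) = 1 by simp [b, honeb], hd1]
    have hsq : ∑ χ ∈ N.erase one, (b χ : ℝ) ^ 2 = ((#E : ℕ) : ℝ) - 1 := by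
      rw [sum_erase_eq_sub honeN, show (b one : ℝ) = 1 by simp [b, honeb]]
      have : ((∑ ζ ∈ N, b ζ * b ζ : ℤ) : ℝ) = ((#E : ℕ) : ℝ) := by exact_mod_cast hRe
      push_cast at this
      simp only [sq]
      linarith
    have := sum_le_sum hlow
    rw [← sum_div, sum_neg_distrib, hsq] at this
    rw [neg_div] at this
    norm_num
    linarith
  -- exceptional part
  set I₁ := D.img.filter (fun χ => n₁ χ ≠ 0) with hI₁
  have hI₁card : (#I₁ : ℕ) * #E + 1 ≤ c := by
    have h1 : #(I₁.biUnion D.fib) = #I₁ * #E := by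
      rw [card_biUnion (D.disj.subset (filter_subset _ _)),
        sum_congr rfl fun χ hχ => D.fib_card χ (mem_filter.mp hχ).1, sum_const, smul_eq_mul]
    rw [← h1]
    let F := ((range c).image fun i : ℕ => ((p * i : ℕ) : ZMod q))
    have h0 : (0 : ZMod q) ∈ F := mem_image.mpr ⟨0, mem_range.mpr (by omega), by simp⟩
    have hsub : I₁.biUnion D.fib ⊆ F.erase 0 := by
      intro k hk
      obtain ⟨χ, hχ, hkχ⟩ := mem_biUnion.mp hk
      obtain ⟨hχI, hne⟩ := mem_filter.mp hχ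
      refine mem_erase.mpr ⟨T.fib_ne_zero D χ hkχ, mem_image.mpr ?_⟩
      have hk0 := ((hfall χ hχI).resolve_left hne).2 k hkχ
      rw [hj₀def, ← ZMod.natCast_zmod_val k, ← Nat.cast_mul, ZMod.natCast_eq_zero_iff] at hk0
      obtain ⟨i, hi⟩ : p ∣ k.val := by
        have hk0' : p * c ∣ k.val * c := by rw [← hqc]; exact hk0
        exact (Nat.mul_dvd_mul_iff_right (by omega)).mp hk0'
      refine ⟨i, mem_range.mpr ?_, by rw [← hi, ZMod.natCast_zmod_val]⟩
      by_contra hcon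
      have h2 : p * c ≤ p * i := Nat.mul_le_mul_left p (by omega)
      rw [← hqc, ← hi] at h2
      have := ZMod.val_lt k
      omega
    have h2 := card_le_card hsub
    rw [card_erase_of_mem h0] at h2
    have h3 : #F ≤ c := card_image_le.trans_eq (card_range c)
    omega
  have hI : -(((#E : ℕ) : ℝ) ^ 2 * ((q : ℝ) - p) / ((q : ℝ) + ((#E : ℕ) : ℝ))) ≤
      ∑ χ ∈ D.img, g χ := by
    have hK : ∀ χ ∈ D.img, (if χ ∈ I₁ then
        -((p : ℝ) * ((#E : ℕ) : ℝ) ^ 3 / ((q : ℝ) + ((#E : ℕ) : ℝ))) else 0) ≤ g χ := by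
      intro χ hχ
      simp only [g, if_pos hχ]
      rcases hfall χ hχ with h | ⟨h, hall⟩
      · rw [if_neg (show χ ∉ I₁ by rw [hI₁, mem_filter]; exact fun h' => h'.2 h), h]; simp
      · rw [if_pos (mem_filter.mpr ⟨hχ, by rw [h]; omega⟩), h]
        have hdpos : (0 : ℝ) < d χ := by exact_mod_cast hd0 χ
        rcases D.eps_eq with h' | h' <;> rw [h']
        · obtain ⟨m, hm⟩ := hdm χ (D.img_sub hχ)
          rw [hbimg χ hχ, D.fib_card χ hχ, h', mul_zero, zero_sub, one_mul] at hm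
          have hm1 : m ≠ 0 := by
            intro hm0
            rw [hm0, Nat.cast_zero, mul_zero] at hm
            have hde : d χ = #T.fus := by omega
            refine honeI ?_
            have heq : χ = one := Subtype.ext (by
              rw [hone]
              refine BrauerSuzukiQ.eq_one_of_apply_eq χ (g := x)
                (fun h0 => hj₀ (T.eq_one_iff.mp h0)) ?_
              rw [D.apply_eq χ (D.img_sub hχ) j₀ hj₀, show D.b χ = b χ from rfl, hbimg χ hχ,
                sum_congr rfl fun k hk => by rw [hall k hk, AddChar.map_zero_eq_one], h', sum_const,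
                nsmul_eq_mul, D.fib_card χ hχ, hd, hde]
              simp)
            exact heq ▸ hχ
          have hqm : (q : ℤ) ≤ (q : ℤ) * m := le_mul_of_one_le_right (by positivity) (by omega)
          have hdge : (q : ℝ) + ((#E : ℕ) : ℝ) ≤ d χ := by
            exact_mod_cast (show (q : ℤ) + #T.fus ≤ d χ by linarith)
          push_cast
          rw [show -(1 * ((p : ℝ) * ((#E : ℕ) : ℝ))) * ((#E : ℕ) : ℝ) ^ 2 / d χ =
            -((p : ℝ) * ((#E : ℕ) : ℝ) ^ 3 / d χ) by ring, neg_le_neg_iff]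
          exact div_le_div_of_nonneg_left (by positivity) (by positivity) hdge
        · refine le_trans (neg_nonpos.mpr (by positivity)) ?_
          push_cast
          rw [show -((-1 : ℝ) * ((p : ℝ) * ((#E : ℕ) : ℝ))) = (p : ℝ) * ((#E : ℕ) : ℝ) by ring]
          positivity
    refine le_trans ?_ (sum_le_sum hK)
    rw [← sum_filter, sum_const, nsmul_eq_mul,
      show D.img.filter (· ∈ I₁) = I₁ from filter_mem_eq_inter.trans
        (inter_eq_right.mpr (filter_subset _ _))]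
    have h1 : ((#I₁ : ℕ) : ℝ) * ((#E : ℕ) : ℝ) * p ≤ (q : ℝ) - p := by
      have h2 : ((#I₁ : ℕ) : ℝ) * ((#E : ℕ) : ℝ) + 1 ≤ c := by exact_mod_cast hI₁card
      have h3 : (q : ℝ) = p * c := by exact_mod_cast hqc
      nlinarith
    rw [mul_neg, neg_le_neg_iff, ← mul_div_assoc]
    refine div_le_div_of_nonneg_right ?_ (by positivity)
    nlinarith [mul_le_mul_of_nonneg_left h1 (sq_nonneg ((#E : ℕ) : ℝ))]
  -- numeric contradiction
  set e : ℝ := ((#E : ℕ) : ℝ)
  set Q' : ℝ := (q : ℝ)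
  have hQe : (e + 1) * (e + 1) ≤ Q' := le_trans (by nlinarith) hqR
  have hq1 : 0 < Q' - 1 := by nlinarith
  have hqe : 0 < Q' + e := by nlinarith
  have key : (e - 1) / (Q' - 1) + e ^ 2 / (Q' + e) < 1 := by
    rw [div_add_div _ _ hq1.ne' hqe.ne', div_lt_one (by positivity)]
    nlinarith [mul_le_mul_of_nonneg_left hQe hqe.le, mul_le_mul_of_nonneg_left hQe hq1.le,
      mul_le_mul_of_nonneg_left hQe (show (0 : ℝ) ≤ e by linarith)]
  have hfin : ((Q' - p) * (1 - (e - 1) / (Q' - 1))) - e ^ 2 * (Q' - p) / (Q' + e) ≤ 0 := by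
    rw [hNdef] at hN
    linarith
  have : 0 < (Q' - p) * (1 - (e - 1) / (Q' - 1) - e ^ 2 / (Q' + e)) :=
    mul_pos hqp (by linarith)
  rw [mul_sub, show (Q' - (p : ℝ)) * (e ^ 2 / (Q' + e)) = e ^ 2 * (Q' - p) / (Q' + e) by ring] at this
  linarith

end

/-- No simple group with cyclic Sylow p-subgroups has all pairs p-solvable. -/
theorem no_cyclic [IsSimpleGroup G] (hna : ¬ IsMulCommutative G) (P : Sylow p G)
    (hP : IsCyclic (P : Subgroup G)) (hP1 : (P : Subgroup G) ≠ ⊥)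
    (hpairs : PairsPSolvable p G) : False := by
  set q := Nat.card (P : Subgroup G) with hq
  haveI : NeZero q := ⟨Nat.card_pos.ne'⟩
  obtain ⟨T⟩ := exists_param P hP
  change Param P q at T
  have hcomm := T.isMulCommutative
  have hC := fun u hu hu1 => T.hasNormalPComplement_centralizer (u := u) hu hu1
  obtain ⟨a, ha⟩ := IsPGroup.iff_card.mp P.isPGroup'
  have he2 := T.two_le_card_fus hna hP1
  rcases a with _ | _ | a
  · exact hP1 (Subgroup.card_eq_one.mp (by rw [ha, pow_zero]))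
  · have hqp : q = p := by rw [hq, ha, pow_one]
    clear_value q
    subst hqp
    rcases Nat.lt_or_ge (#T.fus + 1) q with hlt | hge
    · exact false_of_two_classes hcomm hC T hpairs he2 (by omega)
    · have hle := T.card_fus_le dvd_rfl
      have hall : T.fus = (univ : Finset (ZMod q)).erase 0 := by
        refine eq_of_subset_of_card_le (fun r hr => mem_erase.mpr ⟨fun h =>
          T.fus_mul_ne_zero hr one_ne_zero (by rw [h, zero_mul]), mem_univ _⟩) ?_
        rw [card_erase_of_mem (mem_univ _), card_univ, ZMod.card]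
        omega
      refine no_one_class P hcomm (by omega) hP1 hC ?_ ?_ hpairs
      · intro u hu
        obtain ⟨i, rfl⟩ := (T.mem_iff u).mp hu
        rw [← T.map_nsmul, nsmul_eq_mul, ZMod.natCast_self, zero_mul, T.map_zero]
      · intro u hu w hw hu1 hw1
        obtain ⟨i, rfl⟩ := (T.mem_iff u).mp hu
        obtain ⟨j, rfl⟩ := (T.mem_iff w).mp hw
        have hi : i ≠ 0 := fun h => hu1 (T.eq_one_iff.mpr h)
        have hj : j ≠ 0 := fun h => hw1 (T.eq_one_iff.mpr h)
        have hr : j * i⁻¹ ∈ T.fus := by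
          rw [hall]
          exact mem_erase.mpr ⟨mul_ne_zero hj (inv_ne_zero hi), mem_univ _⟩
        have h := T.conj_fus hr i
        rwa [mul_assoc, inv_mul_cancel₀ hi, mul_one] at h
  · exact false_of_large hcomm hC T hpairs (c := p ^ (a + 1))
      (by rw [hq, ha]; ring) (dvd_pow_self p (Nat.succ_ne_zero a)) he2

end Cfsg.Agent.Lib.PairPSolv
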