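import Mathlib
import Cfsg.Agent.Lib.PairPSolv.Cyclic
import Cfsg.Agent.Lib.PSolvable.PSolv

/-!
# Cyclic Sylow p-subgroups: p-solvability from pairs of elements of order p
-/

set_option autoImplicit false
set_option linter.unusedSectionVars false

namespace Cfsg.Agent.Lib.PairPSolv

open Cfsg Subgroup
open Cfsg.Agent.Lib

universe u

variable {p : ℕ} [hp : Fact p.Prime]

theorem pairs_subgroup {G : Type u} [Group G] (h : PairsPSolvable p G) (H : Subgroup G) :
    PairsPSolvable p H := by
  intro x y hx hy
  have hs := h x y (by rwa [Subgroup.orderOf_coe]) (by rwa [Subgroup.orderOf_coe])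
  let K := closure ({x, y} : Set H)
  have hle : K.map H.subtype = closure ({(x : G), (y : G)} : Set G) := by
    rw [MonoidHom.map_closure]
    simp [Set.image_insert_eq]
  refine PSolvable.isPSolvable_equiv (PSolvable.isPSolvable_equiv hs
    (MulEquiv.subgroupCongr hle.symm)) (K.equivMapOfInjective H.subtype H.subtype_injective).symm

theorem isCyclic_pSubgroup {G : Type u} [Group G] [Finite G] (P : Sylow p G)
    (hP : IsCyclic (P : Subgroup G)) {Q : Subgroup G} (hQ : IsPGroup p Q) : IsCyclic Q := by
  obtain ⟨R, hR⟩ := hQ.exists_le_sylow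
  haveI : IsCyclic (R : Subgroup G) :=
    isCyclic_of_surjective (Sylow.equiv P R).toMonoidHom (Sylow.equiv P R).surjective
  exact isCyclic_of_injective (Subgroup.inclusion hR) (Subgroup.inclusion_injective hR)

theorem pairs_quotient {G : Type u} [Group G] [Finite G] (h : PairsPSolvable p G)
    (N : Subgroup G) [N.Normal] (hN : (Nat.card N).Coprime p) : PairsPSolvable p (G ⧸ N) := by
  have hlift : ∀ z : G ⧸ N, orderOf z = p → ∃ u : G, orderOf u = p ∧ QuotientGroup.mk' N u = z := by
    intro z hz
    obtain ⟨R, hR⟩ := (isPGroup_zpowers_of_orderOf hz).exists_le_sylow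
    obtain ⟨S⟩ := (inferInstance : Nonempty (Sylow p G))
    obtain ⟨g, hg⟩ := MulAction.exists_smul_eq (G ⧸ N)
      (S.mapSurjective (QuotientGroup.mk'_surjective N)) R
    obtain ⟨g, rfl⟩ := QuotientGroup.mk'_surjective N g
    have hz' : z ∈ (R : Subgroup (G ⧸ N)) := hR (mem_zpowers z)
    rw [← hg] at hz'
    obtain ⟨w, hw, hwz⟩ := Subgroup.mem_map.mp hz'
    obtain ⟨s, hs, rfl⟩ := (show w ∈ (S : Subgroup G).map (QuotientGroup.mk' N) from hw)
    refine ⟨g * s * g⁻¹, ?_, by rw [← hwz]; simp⟩
    rw [show g * s * g⁻¹ = MulAut.conj g s from rfl, MulEquiv.orderOf_eq]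
    have hns : orderOf (QuotientGroup.mk' N s) = p := by
      rw [← hz, ← hwz]
      exact ((MulAut.conj (QuotientGroup.mk' N g)).orderOf_eq _).symm
    have h1 : s ^ p ∈ N := by
      rw [← QuotientGroup.eq_one_iff, ← QuotientGroup.mk'_apply, map_pow, ← hns,
        pow_orderOf_eq_one]
    have h2 : s ^ p = 1 := by
      have := PSolvable.inf_eq_bot_of_isPGroup_of_coprime S.isPGroup' hN
      exact Subgroup.mem_bot.mp (this ▸ ⟨pow_mem hs p, h1⟩)
    refine orderOf_eq_prime h2 fun h3 => hp.out.ne_one ?_
    rw [← hns, h3, map_one, orderOf_one]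
  intro x y hx hy
  obtain ⟨a, ha, rfl⟩ := hlift x hx
  obtain ⟨b, hb, rfl⟩ := hlift y hy
  let K := closure ({a, b} : Set G)
  have hmap : K.map (QuotientGroup.mk' N) =
      closure ({QuotientGroup.mk' N a, QuotientGroup.mk' N b} : Set (G ⧸ N)) := by
    rw [MonoidHom.map_closure, Set.image_insert_eq, Set.image_singleton]
  exact PSolvable.isPSolvable_equiv (PSolvable.isPSolvable_map (h a b ha hb)
    ((QuotientGroup.mk' N).subgroupMap K) ((QuotientGroup.mk' N).subgroupMap_surjective K))
    (MulEquiv.subgroupCongr hmap)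

/-- The p-core is trivial or the group is p-solvable. -/
theorem isPSolvable_of_pCore_ne_bot {G : Type u} [Group G] [Finite G] (P : Sylow p G)
    (hP : IsCyclic (P : Subgroup G)) (hO : pPrimeCore p G = ⊥) (hcore : pCore p G ≠ ⊥) :
    IsPSolvable p G := by
  classical
  cases nonempty_fintype G
  set q := Nat.card (P : Subgroup G) with hq
  haveI : NeZero q := ⟨Nat.card_pos.ne'⟩
  obtain ⟨T⟩ := exists_param P hP
  change Param P q at T
  haveI := T.isMulCommutative
  obtain ⟨w, hw⟩ : ∃ w ∈ pCore p G, orderOf w = p := by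
    haveI : Finite (pCore p G) := Subtype.finite
    have hd : p ∣ Nat.card (pCore p G) := by
      obtain ⟨k, hk⟩ := IsPGroup.iff_card.mp (PSolvable.pCore_isPGroup (p := p) (G := G))
      rcases k with _ | k
      · exact absurd (Subgroup.card_eq_one.mp (by rw [hk, pow_zero])) hcore
      · exact hk ▸ dvd_pow_self p (Nat.succ_ne_zero k)
    obtain ⟨w, hw⟩ := exists_prime_orderOf_dvd_card' p hd
    exact ⟨w, w.2, by rwa [Subgroup.orderOf_coe]⟩
  obtain ⟨hwc, hwo⟩ := hw
  have := PSolvable.pCore_characteristic (p := p) (G := G)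
  have hwP : w ∈ (P : Subgroup G) := PSolvable.pCore_le_sylow P hwc
  have hw1 : w ≠ 1 := fun h => hp.out.ne_one (by rw [← hwo, h, orderOf_one])
  -- conjugates of w are powers of w
  have hconj : ∀ g : G, g * w * g⁻¹ ∈ zpowers w := by
    intro g
    have hmem : g * w * g⁻¹ ∈ (P : Subgroup G) :=
      PSolvable.pCore_le_sylow P ((inferInstance : (pCore p G).Normal).conj_mem w hwc g)
    have ho : orderOf (g * w * g⁻¹) = p := by
      rw [show g * w * g⁻¹ = MulAut.conj g w from rfl, MulEquiv.orderOf_eq, hwo]
    haveI := hP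
    let w' : (P : Subgroup G) := ⟨w, hwP⟩
    let z : (P : Subgroup G) := ⟨g * w * g⁻¹, hmem⟩
    have hw'o : orderOf w' = p := (Subgroup.orderOf_mk w hwP).trans hwo
    have hzp : z ^ p = 1 := orderOf_dvd_iff_pow_eq_one.mp ((Subgroup.orderOf_mk _ hmem).trans ho).dvd
    have hsub : (Finset.univ.filter fun a => a ∈ zpowers w') ⊆
        Finset.univ.filter (fun a : (P : Subgroup G) => a ^ p = 1) := fun a ha => by
      simp only [Finset.mem_filter, Finset.mem_univ, true_and] at ha ⊢
      obtain ⟨i, rfl⟩ := mem_zpowers_iff.mp ha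
      rw [← zpow_natCast, ← zpow_mul, mul_comm, zpow_mul, zpow_natCast,
        orderOf_dvd_iff_pow_eq_one.mp hw'o.dvd, one_zpow]
    have hcard : (Finset.univ.filter fun a => a ∈ zpowers w').card = p := by
      rw [← Fintype.card_subtype, ← Nat.card_eq_fintype_card]
      exact (Nat.card_zpowers w').trans hw'o
    have heq := Finset.eq_of_subset_of_card_le hsub
      (hcard.symm ▸ IsCyclic.card_pow_eq_one_le hp.out.pos)
    have h3 : z ∈ zpowers w' := by
      have : z ∈ Finset.univ.filter (fun a : (P : Subgroup G) => a ^ p = 1) := by simp [hzp]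
      rw [← heq] at this
      simpa using this
    obtain ⟨n, hn⟩ := mem_zpowers_iff.mp h3
    exact mem_zpowers_iff.mpr ⟨n, by simpa using congrArg Subtype.val hn⟩
  set C := centralizer ({w} : Set G)
  have hCn : C.Normal := by
    refine ⟨fun c hc g => mem_centralizer_singleton_iff.mpr ?_⟩
    obtain ⟨n, hn⟩ := mem_zpowers_iff.mp (hconj g⁻¹)
    rw [inv_inv] at hn
    have hcn : c * w ^ n = w ^ n * c :=
      ((show Commute c w from mem_centralizer_singleton_iff.mp hc).zpow_right n).eq
    calc g * c * g⁻¹ * w = g * (c * (g⁻¹ * w * g)) * g⁻¹ := by group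
      _ = g * ((g⁻¹ * w * g) * c) * g⁻¹ := by rw [← hn, hcn]
      _ = w * (g * c * g⁻¹) := by group
  obtain ⟨P₀, N, hN, hc⟩ := T.hasNormalPComplement_centralizer hwP hw1
  have hNbot : N = ⊥ := by
    have hcop : (Nat.card N).Coprime p := by
      rw [← hc.index_eq_card, Nat.coprime_comm, hp.out.coprime_iff_not_dvd]
      exact P₀.not_dvd_index
    have hMn : ((pPrimeCore p C).map C.subtype).Normal :=
      PSolvable.map_subtype_pPrimeCore_normal C
    have h1 : (pPrimeCore p C).map C.subtype ≤ pPrimeCore p G := PSolvable.le_pPrimeCore (by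
      rw [card_map_of_injective C.subtype_injective]; exact PSolvable.pPrimeCore_coprime)
    rw [hO, le_bot_iff, map_eq_bot_iff_of_injective _ C.subtype_injective] at h1
    exact le_bot_iff.mp (h1 ▸ PSolvable.le_pPrimeCore hcop)
  have hCp : IsPGroup p C := by
    rw [hNbot] at hc
    have := isComplement'_bot_left.mp hc
    exact fun c => by
      obtain ⟨k, hk⟩ := P₀.isPGroup' ⟨c, this ▸ Subgroup.mem_top c⟩
      exact ⟨k, congrArg Subtype.val hk⟩
  have hPC : (P : Subgroup G) ≤ C := fun z hz => mem_centralizer_singleton_iff.mpr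
    (congrArg Subtype.val (mul_comm' (⟨z, hz⟩ : (P : Subgroup G)) ⟨w, hwP⟩))
  have hPn : (P : Subgroup G).Normal := by
    rw [P.is_maximal' hCp hPC] at hCn
    exact hCn
  obtain ⟨k, hk⟩ := IsPGroup.iff_card.mp P.isPGroup'
  refine PSolvable.isPSolvable_of_quotient (P : Subgroup G) (Or.inl ⟨k, hk⟩)
    (PSolvable.isPSolvable_of_coprime ?_)
  rw [← Subgroup.index_eq_card, Nat.coprime_comm, hp.out.coprime_iff_not_dvd]
  exact P.not_dvd_index

theorem isPSolvable_of_pairs (n : ℕ) : ∀ {G : Type u} [Group G] [Finite G], Nat.card G ≤ n →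
    ∀ P : Sylow p G, IsCyclic (P : Subgroup G) → PairsPSolvable p G → IsPSolvable p G := by
  induction n with
  | zero => intro G _ _ hn; exact absurd hn (by have := Nat.card_pos (α := G); omega)
  | succ n ih =>
    intro G _ _ hn P hP hpairs
    by_cases hdvd : p ∣ Nat.card G
    swap
    · exact PSolvable.isPSolvable_of_coprime (Nat.coprime_comm.mp
        (hp.out.coprime_iff_not_dvd.mpr hdvd))
    by_cases hO : pPrimeCore p G = ⊥
    swap
    · have := PSolvable.pPrimeCore_characteristic (p := p) (G := G)
      let S := P.mapSurjective (QuotientGroup.mk'_surjective (pPrimeCore p G))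
      have hS : IsCyclic (S : Subgroup (G ⧸ pPrimeCore p G)) := by
        haveI := hP
        exact isCyclic_of_surjective ((QuotientGroup.mk' (pPrimeCore p G)).subgroupMap
          (P : Subgroup G)) ((QuotientGroup.mk' (pPrimeCore p G)).subgroupMap_surjective _)
      have hlt : Nat.card (G ⧸ pPrimeCore p G) < Nat.card G := by
        rw [← Subgroup.index_eq_card, ← (pPrimeCore p G).card_mul_index]
        exact lt_mul_left (Nat.pos_of_ne_zero index_ne_zero_of_finite)
          ((Subgroup.one_lt_card_iff_ne_bot _).mpr hO)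
      exact PSolvable.isPSolvable_of_quotient (pPrimeCore p G) (Or.inr PSolvable.pPrimeCore_coprime)
        (ih (by omega) S hS (pairs_quotient hpairs _ PSolvable.pPrimeCore_coprime))
    by_cases hcore : pCore p G = ⊥
    swap
    · exact isPSolvable_of_pCore_ne_bot P hP hO hcore
    by_cases hab : IsMulCommutative G
    · exact PSolvable.isPSolvable_of_isMulCommutative
    have hP1 : (P : Subgroup G) ≠ ⊥ := P.ne_bot_of_dvd_card hdvd
    haveI : Nontrivial G := Finite.one_lt_card_iff_nontrivial.mp
      (lt_of_lt_of_le hp.out.one_lt (Nat.le_of_dvd Nat.card_pos hdvd))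
    haveI : IsSimpleGroup G := ⟨fun N hN => by
      by_contra hcon
      push Not at hcon
      obtain ⟨hb, ht⟩ := hcon
      have hlt : Nat.card N < Nat.card G := by
        refine lt_of_le_of_ne (Subgroup.card_le_card_group N) fun h => ht ?_
        exact Subgroup.eq_top_of_card_eq N h
      obtain ⟨SN⟩ := (inferInstance : Nonempty (Sylow p N))
      have hSN : IsCyclic (SN : Subgroup N) := by
        haveI := isCyclic_pSubgroup P hP (SN.isPGroup'.map N.subtype)
        exact isCyclic_of_surjective
          ((SN : Subgroup N).equivMapOfInjective N.subtype N.subtype_injective).symm.toMonoidHom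
          ((SN : Subgroup N).equivMapOfInjective N.subtype N.subtype_injective).symm.surjective
      have hNs := ih (G := N) (by omega) SN hSN (pairs_subgroup hpairs N)
      haveI : Nontrivial N := (Subgroup.nontrivial_iff_ne_bot N).mpr hb
      rcases PSolvable.pCore_ne_bot_or_pPrimeCore_ne_bot hNs with h | h <;> apply h
      · haveI := PSolvable.map_subtype_pCore_normal (p := p) N
        have h1 := PSolvable.le_pCore ((PSolvable.pCore_isPGroup (p := p) (G := N)).map N.subtype)
        rw [hcore, le_bot_iff, map_eq_bot_iff_of_injective _ N.subtype_injective] at h1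
        exact h1
      · haveI := PSolvable.map_subtype_pPrimeCore_normal (p := p) N
        have h1 : (pPrimeCore p N).map N.subtype ≤ pPrimeCore p G := PSolvable.le_pPrimeCore (by
          rw [card_map_of_injective N.subtype_injective]; exact PSolvable.pPrimeCore_coprime)
        rw [hO, le_bot_iff, map_eq_bot_iff_of_injective _ N.subtype_injective] at h1
        exact h1⟩
    cases nonempty_fintype G
    exact (no_cyclic hab P hP hP1 hpairs).elim

end Cfsg.Agent.Lib.PairPSolv
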